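import Mathlib
import Cfsg.Prelude.Def_ChevStructure
import Cfsg.Prelude.Def_LieChev
import Cfsg.Prelude.Def_ChevB2
import Cfsg.Prelude.Def_ChevD4

/-!
# Project BGL (S2190 + S2189, subfield subgroups of the seven Chevalley groups) — definitions

Designer: helper10 (blocks co-designed by helper25 PAIR/SE, helper14 SPAN/PAR, helper8 BTC, helper2 UK/FLD).
Plan and block interfaces: `Cfsg/Agent/Lib/Helper10/BGL/PLAN.md`, `Skel0.lean.txt`.

`K` a field of characteristic `p`, `q = p ^ a`, `k = {c | c ^ q = c}` the fixed field of the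
`q`-Frobenius.  A scalar / matrix is *rational* if it is fixed by the `q`-Frobenius (entrywise).
-/

set_option autoImplicit false

namespace Cfsg.Agent.Lib.Helper10.BGL

open Cfsg.Lie Cfsg.Lie.ChevalleyDatum

universe u

variable (D : ChevalleyDatum) {K : Type u} [Field K]

/-- `c` lies in the fixed field of `x ↦ x ^ q`. -/
def Rt (q : ℕ) (c : K) : Prop := c ^ q = c

/-- all entries of the matrix are fixed by `x ↦ x ^ q`. -/
def RatM (q : ℕ) (g : Matrix D.Idx D.Idx K) : Prop := ∀ i j, g i j ^ q = g i j

/-- `L(k)`: the group generated by the root elements with rational parameter. -/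
def Lq (K : Type u) [Field K] (q : ℕ) : Subgroup (GL D.Idx K) :=
  Subgroup.closure {g | ∃ (s : ℕ) (t : K), t ^ q = t ∧ (g : Matrix D.Idx D.Idx K) = D.x K s t}

/-- the root elements of `H` have rational parameter: `H ∩ X_s(K) = X_s(k)`. -/
def RootRat (q : ℕ) (H : Subgroup (GL D.Idx K)) : Prop :=
  ∀ s < D.nroots, ∀ (t : K) (g : GL D.Idx K),
    (g : Matrix D.Idx D.Idx K) = D.x K s t → g ∈ H → t ^ q = t

/-- the root elements of `H` fill the root groups: `X_s(K) ≤ H` for all `s`. -/
def RootFull (H : Subgroup (GL D.Idx K)) : Prop :=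
  ∀ (s : ℕ) (t : K) (g : GL D.Idx K), (g : Matrix D.Idx D.Idx K) = D.x K s t → g ∈ H

/-- the index of the highest root `ρ` (the roots are indexed in lexicographic order of their
coefficient vectors, so `ρ` is the last one and `-ρ` the first one, index `0`). -/
def top : ℕ := D.nroots - 1

/-- the entry of `g` in row `e_{-ρ}` and column `e_ρ` (the coefficient of `e_{-ρ}` in `g e_ρ`). -/
def topEntry (g : Matrix D.Idx D.Idx K) : K :=
  if h : 0 < D.nroots then g (Sum.inr ⟨0, h⟩) (Sum.inr ⟨D.nroots - 1, by omega⟩) else 0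

/-- the `q`-Frobenius applied entrywise -/
def frobM (q : ℕ) (g : Matrix D.Idx D.Idx K) : Matrix D.Idx D.Idx K := g.map (fun c => c ^ q)

end Cfsg.Agent.Lib.Helper10.BGL
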