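import Mathlib
import Cfsg.Agent.Lib.Helper10.BGL.Defs
import Cfsg.Agent.Lib.helper7.SfD

/-!
# Project BGL — bridge lemmas (block TOP, row T0)

`sig p a : K ≃+* K` is the `p ^ a`-Frobenius of a finite field of characteristic `p`;
`Lq D K (p ^ a)` is helper7's `Sf.fixL D (sig p a)`, `RatM` is "fixed by `h8Psi D (sig p a)`",
`ratS` the subgroup of rational matrices.
-/

set_option autoImplicit false

namespace Cfsg.Agent.Lib.Helper10.BGL

open Cfsg.Lie Cfsg.Lie.ChevalleyDatum Cfsg.Agent.Lib.helper8 Cfsg.Agent.Lib.helper7.Sf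

universe u

variable {K : Type u} [Field K] [Finite K] (p : ℕ) [Fact p.Prime] [CharP K p]

/-- a finite field of characteristic `p` is perfect -/
theorem bridge_perfect : PerfectRing K p := by
  have : ExpChar K p := ExpChar.prime (Fact.out : p.Prime)
  exact PerfectRing.ofFiniteOfIsReduced p K

/-- the `p ^ a`-Frobenius automorphism of the finite field `K` -/
noncomputable def sig (a : ℕ) : K ≃+* K :=
  have : ExpChar K p := ExpChar.prime (Fact.out : p.Prime)
  have : PerfectRing K p := bridge_perfect p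
  iterateFrobeniusEquiv K p a

theorem sig_apply (a : ℕ) (x : K) : sig (K := K) p a x = x ^ p ^ a := rfl

theorem sig_coe_apply (a : ℕ) (x : K) : ((sig (K := K) p a : K ≃+* K) : K →+* K) x = x ^ p ^ a :=
  rfl

theorem Lq_eq_fixL (D : ChevalleyDatum) (a : ℕ) : Lq D K (p ^ a) = fixL D (sig (K := K) p a) := rfl

theorem ratM_iff (D : ChevalleyDatum) (a : ℕ) (g : GL D.Idx K) :
    RatM D (p ^ a) (g : Matrix D.Idx D.Idx K) ↔
      h8Psi D ((sig (K := K) p a : K ≃+* K) : K →+* K) g = g := by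
  constructor
  · intro h
    apply Units.ext
    rw [h8Psi_val]
    ext i j
    rw [Matrix.map_apply]
    exact h i j
  · intro h i j
    have h1 := congrArg (fun x : GL D.Idx K => (x : Matrix D.Idx D.Idx K) i j) h
    simp only [h8Psi_val, Matrix.map_apply] at h1
    exact h1

/-- the subgroup of rational matrices -/
noncomputable def ratS (D : ChevalleyDatum) (a : ℕ) : Subgroup (GL D.Idx K) :=
  (h8Psi D ((sig (K := K) p a : K ≃+* K) : K →+* K)).eqLocus (MonoidHom.id _)

theorem mem_ratS (D : ChevalleyDatum) (a : ℕ) (g : GL D.Idx K) :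
    g ∈ ratS (K := K) p D a ↔ RatM D (p ^ a) (g : Matrix D.Idx D.Idx K) := by
  rw [ratM_iff]
  rfl

omit [Finite K] in
theorem Lq_le_group (D : ChevalleyDatum) (q : ℕ) : Lq D K q ≤ D.group K := by
  unfold Lq
  rw [Subgroup.closure_le]
  rintro g ⟨s, t, -, hg⟩
  by_cases hs : s < D.nroots
  · unfold ChevalleyDatum.group
    apply Subgroup.subset_closure
    refine ⟨⟨s, hs⟩, t, ?_⟩
    rw [hg]
    unfold ChevalleyDatum.x
    rw [dif_pos hs]
  · have : g = 1 := by
      apply Units.ext
      rw [hg]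
      unfold ChevalleyDatum.x
      rw [dif_neg hs]
      rfl
    rw [this]
    exact Subgroup.one_mem _

omit [Finite K] in
theorem x_mem_Lq (D : ChevalleyDatum) (q : ℕ) (s : ℕ) (t : K) (ht : t ^ q = t) (g : GL D.Idx K)
    (hg : (g : Matrix D.Idx D.Idx K) = D.x K s t) : g ∈ Lq D K q :=
  Subgroup.subset_closure ⟨s, t, ht, hg⟩

/-- elements of `L(k)` are rational -/
theorem Lq_rat (D : ChevalleyDatum) (a : ℕ) :
    ∀ g ∈ Lq D K (p ^ a), RatM D (p ^ a) ((g : GL D.Idx K) : Matrix D.Idx D.Idx K) := by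
  intro g hg
  rw [← mem_ratS]
  revert g
  show Lq D K (p ^ a) ≤ ratS p D a
  unfold Lq
  rw [Subgroup.closure_le]
  rintro g ⟨s, t, ht, hg⟩
  show g ∈ ratS p D a
  rw [mem_ratS]
  intro i j
  have h1 : ((g : Matrix D.Idx D.Idx K).map ((sig (K := K) p a : K ≃+* K) : K →+* K)) =
      (g : Matrix D.Idx D.Idx K) := by
    rw [hg, h8x_map]
    congr 1
  have h2 := congrFun (congrFun h1 i) j
  rw [Matrix.map_apply] at h2
  exact h2

theorem Lq_le_ratS (D : ChevalleyDatum) (a : ℕ) : Lq D K (p ^ a) ≤ ratS p D a := by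
  intro g hg
  rw [mem_ratS]
  exact Lq_rat p D a g hg

end Cfsg.Agent.Lib.Helper10.BGL
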