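import Mathlib
import Cfsg.Agent.Lib.Helper10.BGL.Bridge

/-!
# Project BGL — block ALG (S2189): definitions and the first rows

* `alg_sep` (AL1): the elements of a finitely generated `F_p`-subalgebra of a field of
  characteristic `p` are separated by the ring homomorphisms to finite fields
  (Jacobson + Nullstellensatz).
* `algX` (AL2): the root element matrix over a commutative ring, `algX_map`.
* `specM`: the specialisation of a subgroup `M ≤ GL(k)` along `π : R →+* F`, `R` a subring of `k`.
* `alg_fix_gcd`: `c` fixed by the `q^m`- and `q^n`-power maps is fixed by the `q^gcd(m,n)`-power map.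
-/

set_option autoImplicit false

namespace Cfsg.Agent.Lib.Helper10.BGL

open Cfsg.Lie Cfsg.Lie.ChevalleyDatum Cfsg.Agent.Lib.helper8

universe u

theorem alg_sep_aux {k : Type u} [Field k] (p : ℕ) [Fact p.Prime] [Algebra (ZMod p) k]
    (S : Finset k) (x : Algebra.adjoin (ZMod p) (S : Set k)) (hx0 : x ≠ 0) :
    ∃ (F : Type u) (_ : Field F) (_ : Finite F)
      (π : Algebra.adjoin (ZMod p) (S : Set k) →+* F), π x ≠ 0 := by
  have hft : Algebra.FiniteType (ZMod p) (Algebra.adjoin (ZMod p) (S : Set k)) := by
    rw [← Subalgebra.fg_iff_finiteType]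
    exact Subalgebra.fg_adjoin_finset S
  have hJ : IsJacobsonRing (Algebra.adjoin (ZMod p) (S : Set k)) :=
    isJacobsonRing_of_finiteType (A := ZMod p) (B := Algebra.adjoin (ZMod p) (S : Set k))
  have hjac : (⊥ : Ideal (Algebra.adjoin (ZMod p) (S : Set k))).jacobson = ⊥ :=
    hJ.out Ideal.isRadical_bot
  have hnot : x ∉ (⊥ : Ideal (Algebra.adjoin (ZMod p) (S : Set k))).jacobson := by
    rw [hjac]
    simpa using hx0
  rw [Ideal.jacobson, Ideal.mem_sInf] at hnot
  push Not at hnot
  obtain ⟨m, ⟨_, hm⟩, hxm⟩ := hnot
  have : m.IsMaximal := hm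
  let _ : Field ((Algebra.adjoin (ZMod p) (S : Set k)) ⧸ m) := Ideal.Quotient.field m
  have hft2 : Algebra.FiniteType (ZMod p) ((Algebra.adjoin (ZMod p) (S : Set k)) ⧸ m) :=
    Algebra.FiniteType.of_surjective (Ideal.Quotient.mkₐ (ZMod p) m)
      (Ideal.Quotient.mkₐ_surjective _ m)
  have hfin : Module.Finite (ZMod p) ((Algebra.adjoin (ZMod p) (S : Set k)) ⧸ m) :=
    finite_of_finite_type_of_isJacobsonRing (ZMod p) _
  have : Finite ((Algebra.adjoin (ZMod p) (S : Set k)) ⧸ m) := Module.finite_of_finite (ZMod p)
  refine ⟨(Algebra.adjoin (ZMod p) (S : Set k)) ⧸ m, inferInstance, inferInstance,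
    Ideal.Quotient.mk m, ?_⟩
  rw [Ne, Ideal.Quotient.eq_zero_iff_mem]
  exact hxm

/-- AL1: a finite subset of a field of characteristic `p` lies in a subring whose nonzero elements
survive in some finite residue field. -/
theorem alg_sep {k : Type u} [Field k] (p : ℕ) [Fact p.Prime] [CharP k p] (S : Finset k) :
    ∃ R : Subring k, (S : Set k) ⊆ R ∧ ∀ x : R, x ≠ 0 →
      ∃ (F : Type u) (_ : Field F) (_ : Finite F) (π : R →+* F), π x ≠ 0 := by
  let _ : Algebra (ZMod p) k := ZMod.algebra k p
  refine ⟨(Algebra.adjoin (ZMod p) (S : Set k)).toSubring, Algebra.subset_adjoin, ?_⟩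
  intro x hx0
  exact alg_sep_aux p S x hx0

/-- AL2: the matrix of `x_r(t)` over a commutative ring (same formula as `ChevalleyDatum.xMat`). -/
def algX (D : ChevalleyDatum) (R : Type*) [CommRing R] (r : Fin D.nroots) (t : R) :
    Matrix D.Idx D.Idx R :=
  Matrix.of fun row col =>
    match col with
    | Sum.inl i =>
      (match row with
       | Sum.inl i' => if i' = i then 1 else 0
       | Sum.inr u => if u = r then - (((D.cartanSR.getD i.val #[]).getD r.val 0 : ℤ) : R) * t else 0)
    | Sum.inr s =>
      if s = r then (match row with | Sum.inr u => if u = r then 1 else 0 | Sum.inl _ => 0)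
      else if s.val = D.negIdx.getD r.val 0 then
        (match row with
         | Sum.inl i => (((D.coroot.getD r.val #[]).getD i.val 0 : ℤ) : R) * t
         | Sum.inr u => if u = s then 1 else if u = r then -(t ^ 2) else 0)
      else
        (match row with
         | Sum.inl _ => 0
         | Sum.inr u => (if u = s then 1 else 0) +
             ((D.chainCoeff r.val s.val u.val).map fun km => ((km.2 : ℤ) : R) * t ^ km.1).sum)

theorem alg_sum_map {R : Type*} [CommRing R] {F : Type*} [Field F] (f : R →+* F) (t : R)
    (l : List (ℕ × ℤ)) :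
    f ((l.map fun km => ((km.2 : ℤ) : R) * t ^ km.1).sum) =
      (l.map fun km => ((km.2 : ℤ) : F) * (f t) ^ km.1).sum := by
  rw [map_list_sum, List.map_map]
  congr 1
  apply List.map_congr_left
  intro km _
  simp only [Function.comp_apply, map_mul, map_intCast, map_pow]

/-- AL2: a ring homomorphism to a field maps `algX` to the root element matrix. -/
theorem algX_map (D : ChevalleyDatum) {R : Type*} [CommRing R] {F : Type*} [Field F] (f : R →+* F)
    (r : Fin D.nroots) (t : R) : (algX D R r t).map f = D.xMat F r (f t) := by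
  ext row col
  unfold algX ChevalleyDatum.xMat
  rw [Matrix.map_apply, Matrix.of_apply, Matrix.of_apply]
  rcases col with i | s
  · rcases row with i' | u
    · dsimp only
      split_ifs <;> simp only [map_zero, map_one]
    · dsimp only
      split_ifs <;> simp only [map_zero, map_one, map_neg, map_mul, map_intCast]
  · rcases row with i' | u
    · dsimp only
      split_ifs <;> simp only [map_zero, map_one, map_neg, map_mul, map_intCast]
    · dsimp only
      split_ifs <;>
        simp only [map_zero, map_one, map_neg, map_mul, map_intCast, map_pow, map_add,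
          add_zero, zero_add, alg_sum_map]

/-- the specialisation of `M ≤ GL(k)` along `π : R →+* F`, `R` a subring of `k`: the images under
`π` of the matrices over `R` that lie in `M`. -/
noncomputable def specM (D : ChevalleyDatum) {k : Type u} [Field k] (R : Subring k) {F : Type u}
    [Field F] (π : R →+* F) (M : Subgroup (GL D.Idx k)) : Subgroup (GL D.Idx F) :=
  (M.comap (Matrix.GeneralLinearGroup.map R.subtype)).map (Matrix.GeneralLinearGroup.map π)

/-- iterating a fixed power -/
theorem alg_fix_mul {K : Type*} [Monoid K] (q : ℕ) (c : K) (m : ℕ) (h : c ^ q ^ m = c) (n : ℕ) :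
    c ^ q ^ (n * m) = c := by
  induction n with
  | zero => simp
  | succ n ih =>
    have e : (n + 1) * m = n * m + m := by ring
    rw [e, pow_add, pow_mul, ih, h]

/-- `c` fixed by the `q^m`- and the `q^n`-power map is fixed by the `q^gcd(m,n)`-power map. -/
theorem alg_fix_gcd {K : Type*} [Monoid K] (q : ℕ) (c : K) :
    ∀ m n : ℕ, c ^ q ^ m = c → c ^ q ^ n = c → c ^ q ^ (Nat.gcd m n) = c := by
  intro m n
  induction m, n using Nat.gcd.induction with
  | H0 n =>
    intro _ h
    rw [Nat.gcd_zero_left]
    exact h
  | H1 m n hm ih =>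
    intro h1 h2
    rw [Nat.gcd_rec]
    apply ih _ h1
    -- c ^ q ^ (n % m) = c
    have hdiv := Nat.div_add_mod n m
    have h3 : c ^ q ^ (n / m * m) = c := alg_fix_mul q c m h1 (n / m)
    have h4 : c ^ q ^ n = (c ^ q ^ (n / m * m)) ^ q ^ (n % m) := by
      rw [← pow_mul, ← pow_add, mul_comm (n / m) m, hdiv]
    rw [h3] at h4
    rw [← h4]
    exact h2

end Cfsg.Agent.Lib.Helper10.BGL
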