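import Mathlib
import Cfsg.Agent.Lib.Helper10.BGL.Bridge
import Cfsg.Agent.Lib.helper8.BGLBT3

/-!
# Project BGL — block BTC: `btc_main`

`btc_lang` is helper8's `bglbt3_lang` (same proof, copied) with the rational representative
exposed as `uP * n₀`, `uP ∈ U` fixed by `σ`, `n₀ ∈ ⟨n_r(1)⟩`; hence the representative lies in
`Lq` (`btc_mem_Lq`), which is what CORE needs (`H` contains `Lq` but not the rational torus).
-/

set_option autoImplicit false

namespace Cfsg.Agent.Lib.Helper10.BGL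

open Cfsg.Lie Cfsg.Lie.ChevalleyDatum Cfsg.Agent.Lib.helper8 Cfsg.Agent.Lib.helper8.BTT
  Cfsg.Agent.Lib.helper7.Sf

universe u

section grp
variable {F : Type u} [Field F] (D : ChevalleyDatum)

/-- helper8's Lang step with the rational representative exposed. -/
theorem btc_lang [Fintype F] (p : ℕ) [Fact p.Prime] [CharP F p]
    (hD : D ∈ [chevG2, chevB2, chevD4, chevF4, chevE6, chevE7, chevE8]) (φ : F →+* F)
    (L : Fin D.nroots → ℝ) (hL : L ∈ levE D) (hdom : Dom D L)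
    (g : GL D.Idx F) (hg : g ∈ D.group F)
    (hy : g⁻¹ * h8Psi D φ g ∈ D.parabolicSubgroup F (zeroSet D L)) :
    ∃ uP ∈ D.posUnipotent F, h8Psi D φ uP = uP ∧
      ∃ n₀ ∈ Subgroup.closure {g : GL D.Idx F | ∃ r : ℕ, r < D.nroots ∧
        (g : Matrix D.Idx D.Idx F) = D.nMat F r 1},
      (uP * n₀)⁻¹ * g ∈ D.parabolicSubgroup F (zeroSet D L) := by
  classical
  have hB := h8base_all.{u} D hD
  have hC := h8commAll.{u} D hD
  obtain ⟨hO, _⟩ := h8ord_all D hD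
  -- Bruhat form of `g⁻¹`
  obtain ⟨b, hb, n, hn, u, hu, e⟩ :=
    (Cfsg.Agent.S1100.result (F := F) D hD).1 g⁻¹ ((D.group F).inv_mem hg)
  have huU : u ∈ D.posUnipotent F := by
    revert hu
    apply Subgroup.closure_mono
    rintro z ⟨r, t, hr, _, hz⟩
    exact ⟨r, t, hr, hz⟩
  have eg : g = u⁻¹ * n⁻¹ * b⁻¹ := by
    have : g = (g⁻¹)⁻¹ := (inv_inv g).symm
    rw [this, e]
    group
  -- `n⁻¹ = h n₀`
  obtain ⟨h, hh, n₀, hn₀, en⟩ := bglbt3_N_decomp D hD n⁻¹ ((D.monomialSubgroup F).inv_mem hn)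
  have hn₀N : n₀ ∈ D.monomialSubgroup F := by
    unfold ChevalleyDatum.monomialSubgroup
    exact Subgroup.mem_sup_right hn₀
  have hn₀fix : h8Psi D φ n₀ = n₀ := bglbt3_N0_fix D hD φ n₀ hn₀
  obtain ⟨L', hL', _, hlev⟩ := N_lev D hD n₀ hn₀N L hL
  have hlevi : Lev (lvl D L') (lvl D L) ((n₀⁻¹ : GL D.Idx F) : Matrix D.Idx D.Idx F) :=
    lev_inv _ _ n₀ hlev
  -- split `u⁻¹`
  let P : ℕ → Bool := fun r => decide (lv D L' r < 0)
  have hPt : ∀ r, P r = true → lv D L' r < 0 := fun r hr => of_decide_eq_true hr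
  have hPf : ∀ r, P r = false → 0 ≤ lv D L' r := fun r hr => not_lt.1 (of_decide_eq_false hr)
  obtain ⟨t, et⟩ := h8split_main D hB hC hO P u⁻¹ ((D.posUnipotent F).inv_mem huU)
  set uP := h8wordU D hB (h8ordP D P 0 t) with huP
  set uQ := h8wordU D hB (h8ordQ D P 0 t) with huQ
  have huPm := h8ordP_mem D hB P 0 t
  have huQm := h8ordQ_mem D hB P 0 t
  have huPσ := bglbt3_UP_map D hD φ P uP huPm
  have hF1 : FilP (lvl D (-L')) (uP : Matrix D.Idx D.Idx F) := bglbt3_UP_filP D hD L' hL' P hPt uP huPm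
  have hF2 : FilP (lvl D (-L')) ((h8Psi D φ uP : GL D.Idx F) : Matrix D.Idx D.Idx F) :=
    bglbt3_UP_filP D hD L' hL' P hPt _ huPσ
  have hQ1 : Par (lvl D L') (uQ : Matrix D.Idx D.Idx F) := bglbt3_UQ_par D hD L' hL' P hPf uQ huQm
  have hQ2 : Par (lvl D L') ((h8Psi D φ uQ : GL D.Idx F) : Matrix D.Idx D.Idx F) := by
    rw [h8Psi_val]
    exact bglbt2_par_map φ _ _ hQ1
  have hh1 : Par (lvl D L') (h : Matrix D.Idx D.Idx F) := lev_par _ _ (H_lev D hD _ h hh)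
  have hh2 : Par (lvl D L') ((h8Psi D φ h : GL D.Idx F) : Matrix D.Idx D.Idx F) := by
    rw [h8Psi_val]
    exact bglbt2_par_map φ _ _ hh1
  have hb1 : Par (lvl D L) ((b⁻¹ : GL D.Idx F) : Matrix D.Idx D.Idx F) :=
    B_par D hD L hL hdom _ ((D.borelSubgroup F).inv_mem hb)
  have hb2 : Par (lvl D L) ((h8Psi D φ b⁻¹ : GL D.Idx F) : Matrix D.Idx D.Idx F) := by
    rw [h8Psi_val]
    exact bglbt2_par_map φ _ _ hb1
  have hyP : Par (lvl D L) ((g⁻¹ * h8Psi D φ g : GL D.Idx F) : Matrix D.Idx D.Idx F) :=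
    bglbt3_PJ_le_par D hD L hL hdom _ hy
  -- the key identity
  have eg2 : g = uP * (uQ * h * n₀ * b⁻¹) := by
    rw [eg, et, en]
    group
  have e1 : h8Psi D φ g = h8Psi D φ uP * (h8Psi D φ uQ * h8Psi D φ h * n₀ * h8Psi D φ b⁻¹) := by
    have := congrArg (h8Psi D φ) eg2
    rw [this, map_mul, map_mul, map_mul, map_mul, hn₀fix]
  have key : uP⁻¹ * h8Psi D φ uP =
      uQ * h * (n₀ * (b⁻¹ * (g⁻¹ * h8Psi D φ g) * (h8Psi D φ b⁻¹)⁻¹) * n₀⁻¹) *
        (h8Psi D φ h)⁻¹ * (h8Psi D φ uQ)⁻¹ := by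
    have h1 := bglbt3_aux uP (uQ * h * n₀ * b⁻¹) (h8Psi D φ uP)
      (h8Psi D φ uQ * h8Psi D φ h * n₀ * h8Psi D φ b⁻¹) g (h8Psi D φ g) eg2 e1
    rw [h1]
    group
  -- hence `σ uP = uP`
  have hpar : Par (lvl D L') ((uP⁻¹ * h8Psi D φ uP : GL D.Idx F) : Matrix D.Idx D.Idx F) := by
    rw [key]
    have hmid : Par (lvl D L) ((b⁻¹ * (g⁻¹ * h8Psi D φ g) * (h8Psi D φ b⁻¹)⁻¹ : GL D.Idx F) :
        Matrix D.Idx D.Idx F) := by
      have := par_mul (lvl D L) _ _ (par_mul (lvl D L) _ _ hb1 hyP) (par_inv _ _ hb2)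
      simpa only [Units.val_mul] using this
    have hmid2 : Par (lvl D L') ((n₀ * (b⁻¹ * (g⁻¹ * h8Psi D φ g) * (h8Psi D φ b⁻¹)⁻¹) * n₀⁻¹ :
        GL D.Idx F) : Matrix D.Idx D.Idx F) := by
      have := bglbt3_lev_par_lev (lvl D L) (lvl D L') _ _ _ hlev hmid hlevi
      simpa only [Units.val_mul] using this
    have := par_mul (lvl D L') _ _ (par_mul (lvl D L') _ _ (par_mul (lvl D L') _ _
      (par_mul (lvl D L') _ _ hQ1 hh1) hmid2) (par_inv _ _ hh2)) (par_inv _ _ hQ2)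
    simpa only [Units.val_mul] using this
  have hfil : FilP (lvl D (-L')) ((uP⁻¹ * h8Psi D φ uP : GL D.Idx F) : Matrix D.Idx D.Idx F) := by
    have := filP_mul (lvl D (-L')) _ _ (filP_inv _ _ hF1) hF2
    simpa only [Units.val_mul] using this
  have hone : uP⁻¹ * h8Psi D φ uP = 1 := by
    apply Units.ext
    exact bglbt3_eq_one (lvl D L') (lvl D (-L')) (bglbt3_lvl_neg D L') _ hpar hfil
  have hfix : h8Psi D φ uP = uP := by
    have := congrArg (fun z => uP * z) hone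
    simpa using this
  -- the rational representative
  have huPG : uP ∈ D.group F := by
    have hle : Subgroup.closure {g : GL D.Idx F | ∃ (r : ℕ) (c : F), D.IsPosRoot r ∧ P r = true ∧
        g = h8xU D hB r c} ≤ D.posUnipotent F := by
      rw [Subgroup.closure_le]
      rintro z ⟨r, c, hr, _, rfl⟩
      exact h8xU_mem_U D hB r hr c
    exact h8_U_le_group D (hle huPm)
  have huQG : uQ ∈ D.group F := by
    have hle : Subgroup.closure {g : GL D.Idx F | ∃ (r : ℕ) (c : F), D.IsPosRoot r ∧ P r = false ∧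
        g = h8xU D hB r c} ≤ D.posUnipotent F := by
      rw [Subgroup.closure_le]
      rintro z ⟨r, c, hr, _, rfl⟩
      exact h8xU_mem_U D hB r hr c
    exact h8_U_le_group D (hle huQm)
  have hn₀G : n₀ ∈ D.group F := h8_N_le_group D hB hn₀N
  have hhG : h ∈ D.group F := h8_H_le_group D hB hh
  have huPU : uP ∈ D.posUnipotent F := by
    have hle : Subgroup.closure {g : GL D.Idx F | ∃ (r : ℕ) (c : F), D.IsPosRoot r ∧ P r = true ∧
        g = h8xU D hB r c} ≤ D.posUnipotent F := by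
      rw [Subgroup.closure_le]
      rintro z ⟨r, c, hr, _, rfl⟩
      exact h8xU_mem_U D hB r hr c
    exact hle huPm
  refine ⟨uP, huPU, hfix, n₀, hn₀, ?_⟩
  have e3 : (uP * n₀)⁻¹ * g = (n₀⁻¹ * (uQ * h) * n₀) * b⁻¹ := by
    rw [eg2]
    group
  rw [e3]
  apply Subgroup.mul_mem
  · apply bglbt3_par_le_PJ D p hD L hL hdom
    · exact (D.group F).mul_mem ((D.group F).mul_mem ((D.group F).inv_mem hn₀G)
        ((D.group F).mul_mem huQG hhG)) hn₀G
    · have hqh : Par (lvl D L') ((uQ * h : GL D.Idx F) : Matrix D.Idx D.Idx F) := by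
        have := par_mul (lvl D L') _ _ hQ1 hh1
        simpa only [Units.val_mul] using this
      have := bglbt3_lev_par_lev (lvl D L') (lvl D L) _ _ _ hlevi hqh hlev
      simpa only [Units.val_mul] using this
  · unfold ChevalleyDatum.parabolicSubgroup
    exact Subgroup.mem_sup_left ((D.borelSubgroup F).inv_mem hb)

/-- the rational canonical parabolic with the representative `m = uP * n₀` exposed
(helper8's `bglbt3_main`, same proof). -/
theorem btc_rational [Fintype F] (p : ℕ) [Fact p.Prime] [CharP F p]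
    (hD : D ∈ [chevG2, chevB2, chevD4, chevF4, chevE6, chevE7, chevE8])
    (U : Subgroup (GL D.Idx F)) (hUG : U ≤ D.group F) (hU : IsPGroup p ↥U) (hne : U ≠ ⊥)
    (φ : F →+* F) (hφU : ∀ v ∈ U, ∃ v₀ ∈ U, h8Psi D φ v₀ = v) :
    ∃ uP ∈ D.posUnipotent F, h8Psi D φ uP = uP ∧
      ∃ n₀ ∈ Subgroup.closure {g : GL D.Idx F | ∃ r : ℕ, r < D.nroots ∧
        (g : Matrix D.Idx D.Idx F) = D.nMat F r 1},
      ∃ J : Set ℕ, (∃ i, i < D.rank ∧ i ∉ J) ∧ (∀ j ∈ J, j < D.rank) ∧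
      Subgroup.normalizer (U : Set (GL D.Idx F)) ⊓ D.group F ≤
        (D.parabolicSubgroup F J).map (MulAut.conj (uP * n₀)).toMonoidHom := by
  obtain ⟨g, hg, L, hL, hdom, hprop, hN, hUU, hy⟩ := bglbt3_core D p hD U hUG hU hne φ hφU
  obtain ⟨uP, huP, hfix, n₀, hn₀, hmg⟩ := btc_lang D p hD φ L hL hdom g hg hy
  have hJ : ∀ j ∈ zeroSet D L, j < D.rank := fun j hj => hj.1
  refine ⟨uP, huP, hfix, n₀, hn₀, zeroSet D L, hprop, hJ, ?_⟩
  intro x hx
  obtain ⟨z, hz, rfl⟩ := Subgroup.mem_map.1 (hN hx)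
  rw [Subgroup.mem_map]
  refine ⟨((uP * n₀)⁻¹ * g) * z * ((uP * n₀)⁻¹ * g)⁻¹, ?_, ?_⟩
  · exact Subgroup.mul_mem _ (Subgroup.mul_mem _ hmg hz) (Subgroup.inv_mem _ hmg)
  · show (uP * n₀) * (((uP * n₀)⁻¹ * g) * z * ((uP * n₀)⁻¹ * g)⁻¹) * (uP * n₀)⁻¹ = g * z * g⁻¹
    group

end grp

section fin

variable {K : Type u} [Field K] [Finite K] (p : ℕ) [Fact p.Prime] [CharP K p]

/-- the representative lies in `L(k)` -/
theorem btc_mem_Lq (D : ChevalleyDatum)
    (hD : D ∈ [chevG2, chevB2, chevD4, chevF4, chevE6, chevE7, chevE8]) (a : ℕ)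
    (uP : GL D.Idx K) (huP : uP ∈ D.posUnipotent K)
    (hfix : h8Psi D ((sig (K := K) p a : K ≃+* K) : K →+* K) uP = uP)
    (n₀ : GL D.Idx K) (hn₀ : n₀ ∈ Subgroup.closure {g : GL D.Idx K | ∃ r : ℕ, r < D.nroots ∧
        (g : Matrix D.Idx D.Idx K) = D.nMat K r 1}) :
    uP * n₀ ∈ Lq D K (p ^ a) := by
  have hB := h8base_all.{u} D hD
  apply Subgroup.mul_mem
  · -- `uP` descends to the fixed field
    rw [Lq_eq_fixL]
    have hfixF : ∀ c : K, ((sig (K := K) p a : K ≃+* K) : K →+* K) c = c →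
        ∃ b : ↥(RingHom.eqLocusField ((sig (K := K) p a : K ≃+* K) : K →+* K) (RingHom.id K)),
          (RingHom.eqLocusField ((sig (K := K) p a : K ≃+* K) : K →+* K)
            (RingHom.id K)).subtype b = c :=
      fun c hc => ⟨⟨c, hc⟩, rfl⟩
    have := h8descent_U D hD
      (RingHom.eqLocusField ((sig (K := K) p a : K ≃+* K) : K →+* K) (RingHom.id K)).subtype
      ((sig (K := K) p a : K ≃+* K) : K →+* K) hfixF uP huP hfix
    exact map_le_fixL D (sig (K := K) p a) this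
  · have hle : Subgroup.closure {g : GL D.Idx K | ∃ r : ℕ, r < D.nroots ∧
        (g : Matrix D.Idx D.Idx K) = D.nMat K r 1} ≤ Lq D K (p ^ a) := by
      rw [Subgroup.closure_le]
      rintro g ⟨r, hr, hg⟩
      have e : g = h8nU D hB r 1 := Units.ext (by rw [hg, h8nU_val])
      rw [e]
      unfold h8nU ChevalleyDatum.nWord
      rw [h8wordU_cons, h8wordU_cons, h8wordU_cons]
      have h1 : (1 : K) ^ (p ^ a) = 1 := one_pow _
      have h2 : (-(1 : K)⁻¹) ^ (p ^ a) = -(1 : K)⁻¹ := by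
        rw [inv_one]
        rcases (Fact.out : p.Prime).eq_two_or_odd' with h | h
        · subst h
          have : (-1 : K) = 1 := by
            have := CharP.cast_eq_zero K 2
            push_cast at this
            linear_combination -this
          rw [this, one_pow]
        · exact Odd.neg_one_pow (h.pow)
      refine Subgroup.mul_mem _ (x_mem_Lq D _ r 1 h1 _ (h8xU_val D hB r _))
        (Subgroup.mul_mem _ (x_mem_Lq D _ _ _ h2 _ (h8xU_val D hB _ _))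
          (Subgroup.mul_mem _ (x_mem_Lq D _ r 1 h1 _ (h8xU_val D hB r _)) ?_))
      exact Subgroup.one_mem _
    exact hle hn₀

end fin

section main

variable {K : Type u} [Field K] [Finite K]

/-- BTC = `btc_main` of Skel0. -/
theorem btc_main [CharP K 2] (D : ChevalleyDatum)
    (hD : D ∈ [chevG2, chevB2, chevD4, chevF4, chevE6, chevE7, chevE8]) (a : ℕ) (ha : 1 ≤ a)
    (H : Subgroup (GL D.Idx K)) (hH : H ≤ D.group K) (hL : Lq D K (2 ^ a) ≤ H)
    (hpar : ∀ J : Set ℕ, (∃ i, i < D.rank ∧ i ∉ J) → ∀ g ∈ H, g ∈ D.parabolicSubgroup K J →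
      RatM D (2 ^ a) ((g : GL D.Idx K) : Matrix D.Idx D.Idx K))
    (R : Subgroup (GL D.Idx K)) (hRG : R ≤ D.group K)
    (hRrat : ∀ g ∈ R, RatM D (2 ^ a) ((g : GL D.Idx K) : Matrix D.Idx D.Idx K))
    (hR2 : IsPGroup 2 R) (hRne : R ≠ ⊥) :
    ∀ g ∈ H, g ∈ Subgroup.normalizer (R : Set (GL D.Idx K)) →
      RatM D (2 ^ a) ((g : GL D.Idx K) : Matrix D.Idx D.Idx K) := by
  classical
  have : Fintype K := Fintype.ofFinite K
  have hφU : ∀ v ∈ R, ∃ v₀ ∈ R,
      h8Psi D ((sig (K := K) 2 a : K ≃+* K) : K →+* K) v₀ = v :=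
    fun v hv => ⟨v, hv, (ratM_iff 2 D a v).1 (hRrat v hv)⟩
  obtain ⟨uP, huP, hfix, n₀, hn₀, J, hJ, -, hN⟩ :=
    btc_rational D 2 hD R hRG hR2 hRne _ hφU
  have hm : uP * n₀ ∈ Lq D K (2 ^ a) := btc_mem_Lq 2 D hD a uP huP hfix n₀ hn₀
  intro g hg hgN
  obtain ⟨x, hx, hxg⟩ := Subgroup.mem_map.1 (hN ⟨hgN, hH hg⟩)
  have hxg' : (uP * n₀) * x * (uP * n₀)⁻¹ = g := hxg
  have hxH : x ∈ H := by
    have : x = (uP * n₀)⁻¹ * g * (uP * n₀) := by rw [← hxg']; group
    rw [this]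
    exact H.mul_mem (H.mul_mem (H.inv_mem (hL hm)) hg) (hL hm)
  have hxr := hpar J hJ x hxH hx
  rw [← mem_ratS] at hxr ⊢
  rw [← hxg']
  have hmr := Lq_le_ratS 2 D a hm
  exact Subgroup.mul_mem _ (Subgroup.mul_mem _ hmr hxr) (Subgroup.inv_mem _ hmr)

end main

end Cfsg.Agent.Lib.Helper10.BGL
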