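import Mathlib
import Cfsg.Agent.Lib.Helper10.BGL.Btc

/-!
# Project BGL — TOP assemblies as cores

`fin_core` is `fin_main` of `Skel0.lean.txt` with the STATEMENTS of the block main theorems
`pair_main`, `span_main`, `par_main`, `se_main`, `fld_main` as hypotheses (`btc_main` is landed
and used directly).  When the block mains are on main, `fin_main` is `fin_core` fed with them.
-/

set_option autoImplicit false

namespace Cfsg.Agent.Lib.Helper10.BGL

open Cfsg.Lie Cfsg.Lie.ChevalleyDatum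

universe u

variable {K : Type u} [Field K] [Finite K]

/-- The statement of `pair_main` for a fixed field, prime and datum. -/
def PairSt (K : Type u) [Field K] (p : ℕ) (D : ChevalleyDatum) : Prop :=
  ∀ (a : ℕ), 1 ≤ a → ∀ (H : Subgroup (GL D.Idx K)), H ≤ D.group K → Lq D K (p ^ a) ≤ H →
    RootRat D (p ^ a) H →
    ∀ h ∈ H, Rt (p ^ a) (topEntry D ((h : GL D.Idx K) : Matrix D.Idx D.Idx K))

/-- The statement of `span_main` for a fixed field, prime and datum. -/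
def SpanSt (K : Type u) [Field K] (p : ℕ) (D : ChevalleyDatum) : Prop :=
  ∀ (a : ℕ), 1 ≤ a → ∀ (h : GL D.Idx K), h ∈ D.group K →
    (∀ m ∈ Lq D K (p ^ a), ∀ m' ∈ Lq D K (p ^ a),
      Rt (p ^ a) (topEntry D ((m * h * m' : GL D.Idx K) : Matrix D.Idx D.Idx K))) →
    RatM D (p ^ a) (h : Matrix D.Idx D.Idx K)

/-- The statement of `par_main` for a fixed field and datum. -/
def ParSt (K : Type u) [Field K] (D : ChevalleyDatum) : Prop :=
  ∀ (a : ℕ), 1 ≤ a → ∀ (H : Subgroup (GL D.Idx K)), H ≤ D.group K → Lq D K (2 ^ a) ≤ H →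
    RootRat D (2 ^ a) H → ∀ (J : Set ℕ), (∃ i, i < D.rank ∧ i ∉ J) →
    ∀ g ∈ H, g ∈ D.parabolicSubgroup K J →
      RatM D (2 ^ a) ((g : GL D.Idx K) : Matrix D.Idx D.Idx K)

/-- The statement of `se_main` for a fixed field and datum. -/
def SeSt (K : Type u) [Field K] (D : ChevalleyDatum) : Prop :=
  ∀ (a : ℕ), 1 ≤ a → ∀ (H : Subgroup (GL D.Idx K)), H ≤ D.group K → Lq D K (2 ^ a) ≤ H →
    (∀ R : Subgroup (GL D.Idx K), R ≤ H →
      (∀ g ∈ R, RatM D (2 ^ a) ((g : GL D.Idx K) : Matrix D.Idx D.Idx K)) →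
      IsPGroup 2 R → R ≠ ⊥ → ∀ g ∈ H, g ∈ Subgroup.normalizer (R : Set (GL D.Idx K)) →
      RatM D (2 ^ a) ((g : GL D.Idx K) : Matrix D.Idx D.Idx K)) →
    ∀ h ∈ H, RatM D (2 ^ a) ((h : GL D.Idx K) : Matrix D.Idx D.Idx K)

/-- The statement of `fld_main` for a fixed field, prime and datum. -/
def FldSt (K : Type u) [Field K] (p : ℕ) (D : ChevalleyDatum) : Prop :=
  ∀ (a : ℕ), 1 ≤ a → ∀ (H : Subgroup (GL D.Idx K)), H ≤ D.group K → Lq D K (p ^ a) ≤ H →
    ∃ r : ℕ, 1 ≤ r ∧ Lq D K ((p ^ a) ^ r) ≤ H ∧ RootRat D ((p ^ a) ^ r) H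

/-- TOP: CORE for odd `p`, on the statements of `pair_main` and `span_main`. -/
theorem core_odd_core (p : ℕ) (D : ChevalleyDatum)
    (hpair : PairSt K p D) (hspan : SpanSt K p D) (a : ℕ) (ha : 1 ≤ a)
    (H : Subgroup (GL D.Idx K)) (hH : H ≤ D.group K) (hL : Lq D K (p ^ a) ≤ H)
    (hR : RootRat D (p ^ a) H) :
    ∀ h ∈ H, RatM D (p ^ a) ((h : GL D.Idx K) : Matrix D.Idx D.Idx K) := by
  intro h hh
  refine hspan a ha h (hH hh) ?_
  intro m hm m' hm'
  exact hpair a ha H hH hL hR _ (H.mul_mem (H.mul_mem (hL hm) hh) (hL hm'))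

/-- TOP: CORE for `p = 2`, on the statements of `par_main` and `se_main`. -/
theorem core_two_core [CharP K 2] (D : ChevalleyDatum)
    (hD : D ∈ [chevG2, chevB2, chevD4, chevF4, chevE6, chevE7, chevE8])
    (hpar : ParSt K D) (hse : SeSt K D) (a : ℕ) (ha : 1 ≤ a)
    (H : Subgroup (GL D.Idx K)) (hH : H ≤ D.group K) (hL : Lq D K (2 ^ a) ≤ H)
    (hR : RootRat D (2 ^ a) H) :
    ∀ h ∈ H, RatM D (2 ^ a) ((h : GL D.Idx K) : Matrix D.Idx D.Idx K) := by
  refine hse a ha H hH hL ?_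
  intro R hRH hRrat hR2 hRne
  exact btc_main D hD a ha H hH hL (fun J hJ => hpar a ha H hH hL hR J hJ) R
    (hRH.trans hH) hRrat hR2 hRne

/-- TOP: FIN = FLD + CORE, on the statements of the block main theorems. -/
theorem fin_core (p : ℕ) [Fact p.Prime] [CharP K p] (D : ChevalleyDatum)
    (hD : D ∈ [chevG2, chevB2, chevD4, chevF4, chevE6, chevE7, chevE8])
    (hpair : p ≠ 2 → PairSt K p D) (hspan : p ≠ 2 → SpanSt K p D)
    (hpar : p = 2 → ParSt K D) (hse : p = 2 → SeSt K D) (hfld : FldSt K p D)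
    (a : ℕ) (ha : 1 ≤ a)
    (H : Subgroup (GL D.Idx K)) (hH : H ≤ D.group K) (hL : Lq D K (p ^ a) ≤ H) :
    ∃ r : ℕ, 1 ≤ r ∧ Lq D K ((p ^ a) ^ r) ≤ H ∧
      ∀ h ∈ H, RatM D ((p ^ a) ^ r) ((h : GL D.Idx K) : Matrix D.Idx D.Idx K) := by
  obtain ⟨r, hr, hLr, hRr⟩ := hfld a ha H hH hL
  refine ⟨r, hr, hLr, ?_⟩
  have e : (p ^ a) ^ r = p ^ (a * r) := (pow_mul p a r).symm
  rw [e] at hLr hRr ⊢
  have har : 1 ≤ a * r := Nat.mul_pos (by omega) (by omega)
  by_cases hp : p = 2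
  · subst hp
    exact core_two_core D hD (hpar rfl) (hse rfl) (a * r) har H hH hLr hRr
  · exact core_odd_core p D (hpair hp) (hspan hp) (a * r) har H hH hLr hRr

end Cfsg.Agent.Lib.Helper10.BGL
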