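import Mathlib
import Cfsg.Agent.Lib.Helper10.BGL.Bridge
import Cfsg.Agent.Lib.helper8.ChevSLP3

/-!
# Project BGL — block FLD: definitions and basic rows (FL1, FL5)

`Aset D H s = {t | x_s(t) ∈ H}`, the parameters of the root elements of `H` at the root `s`;
`sx t`, `sy t` the elementary matrices of `SL(2, K)`; `aset_sl2`: the rank one homomorphism
`φ_s : SL(2, K) → ⟨X_s, X_{-s}⟩` of `h8sl2_main` in terms of `h8xU`.
-/

set_option autoImplicit false

namespace Cfsg.Agent.Lib.Helper10.BGL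

open Cfsg.Lie Cfsg.Lie.ChevalleyDatum Cfsg.Agent.Lib.helper8

universe u

variable {K : Type u} [Field K]

/-- the parameters of the root elements of `H` at the root `s` -/
def Aset (D : ChevalleyDatum) (H : Subgroup (GL D.Idx K)) (s : ℕ) : Set K :=
  {t | ∃ g ∈ H, (g : Matrix D.Idx D.Idx K) = D.x K s t}

theorem aset_iff (D : ChevalleyDatum) (hB : H8Base.{u} D) (H : Subgroup (GL D.Idx K)) (s : ℕ)
    (t : K) : t ∈ Aset D H s ↔ h8xU D hB s t ∈ H := by
  constructor
  · rintro ⟨g, hg, e⟩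
    have : g = h8xU D hB s t := Units.ext (by rw [e, h8xU_val])
    rw [← this]
    exact hg
  · intro h
    exact ⟨_, h, h8xU_val D hB s t⟩

theorem aset_zero (D : ChevalleyDatum) (hB : H8Base.{u} D) (H : Subgroup (GL D.Idx K)) (s : ℕ) :
    (0 : K) ∈ Aset D H s := by
  rw [aset_iff D hB]
  have : h8xU D hB s (0 : K) = 1 := by
    apply Units.ext
    rw [h8xU_val, hB.zero]
    rfl
  rw [this]
  exact H.one_mem

theorem aset_add (D : ChevalleyDatum) (hB : H8Base.{u} D) (H : Subgroup (GL D.Idx K)) (s : ℕ)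
    (hs : s < D.nroots) (t u : K) (ht : t ∈ Aset D H s) (hu : u ∈ Aset D H s) :
    t + u ∈ Aset D H s := by
  rw [aset_iff D hB] at ht hu ⊢
  rw [← h8xU_add D hB s hs]
  exact H.mul_mem ht hu

theorem aset_neg (D : ChevalleyDatum) (hB : H8Base.{u} D) (H : Subgroup (GL D.Idx K)) (s : ℕ)
    (t : K) (ht : t ∈ Aset D H s) : -t ∈ Aset D H s := by
  rw [aset_iff D hB] at ht ⊢
  have : h8xU D hB s (-t) = (h8xU D hB s t)⁻¹ := by
    apply Units.ext
    rfl
  rw [this]
  exact H.inv_mem ht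

theorem aset_rat (D : ChevalleyDatum) (H : Subgroup (GL D.Idx K)) (q : ℕ) (hL : Lq D K q ≤ H)
    (hB : H8Base.{u} D) (s : ℕ) (t : K) (ht : t ^ q = t) : t ∈ Aset D H s :=
  ⟨h8xU D hB s t, hL (x_mem_Lq D q s t ht _ (h8xU_val D hB s t)), h8xU_val D hB s t⟩

/-- `RootRat` in terms of `Aset` -/
theorem rootRat_iff (D : ChevalleyDatum) (H : Subgroup (GL D.Idx K)) (q : ℕ) :
    RootRat D q H ↔ ∀ s < D.nroots, ∀ t ∈ Aset D H s, t ^ q = t := by
  constructor
  · intro h s hs t ⟨g, hg, e⟩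
    exact h s hs t g e hg
  · intro h s hs t g e hg
    exact h s hs t ⟨g, hg, e⟩

/-- the upper elementary matrix of `SL(2, K)` -/
def sx (t : K) : Matrix.SpecialLinearGroup (Fin 2) K :=
  ⟨!![1, t; 0, 1], by simp [Matrix.det_fin_two_of]⟩

/-- the lower elementary matrix of `SL(2, K)` -/
def sy (t : K) : Matrix.SpecialLinearGroup (Fin 2) K :=
  ⟨!![1, 0; t, 1], by simp [Matrix.det_fin_two_of]⟩

/-- FL5: the rank one homomorphism at the root `s`. -/
theorem aset_sl2 (D : ChevalleyDatum)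
    (hD : D ∈ [chevG2, chevB2, chevD4, chevF4, chevE6, chevE7, chevE8]) (s : ℕ)
    (hs : s < D.nroots) :
    ∃ φ : Matrix.SpecialLinearGroup (Fin 2) K →* GL D.Idx K,
      (∀ t : K, φ (sx t) = h8xU D (h8base_all.{u} D hD) s t) ∧
      (∀ t : K, φ (sy t) = h8xU D (h8base_all.{u} D hD) (D.neg s) t) := by
  obtain ⟨φ, -, h⟩ := h8sl2_main (F := K) D hD s hs
  refine ⟨φ, fun t => ?_, fun t => ?_⟩
  · apply Units.ext
    rw [h8xU_val]
    exact (h (sx t) t).1 rfl
  · apply Units.ext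
    rw [h8xU_val]
    exact (h (sy t) t).2 rfl

end Cfsg.Agent.Lib.Helper10.BGL
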