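import Mathlib
import Cfsg.Agent.Lib.Helper10.BGL.Fin
import Cfsg.Agent.Lib.Helper25.BGLPA08
import Cfsg.Agent.Lib.Helper25.BGLSE07
import Cfsg.Agent.Lib.helper14.BGLSPFIN
import Cfsg.Agent.Lib.Helper18.BGLFL16
import Cfsg.Agent.Lib.helper8.BGLPAR5

/-!
# Project BGL — TOP: `fin_of_uk` = `fin_main` from the statements of `uk_main`, `bk_main`

All other block mains are on main: `pair_main` (helper25), `span_main` (helper14), `se_main`
(helper25), `fld_main` (helper18), `btc_main` (helper10 / helper8), `par_main_core` (helper8).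
-/

set_option autoImplicit false

namespace Cfsg.Agent.Lib.Helper10.BGL

open Cfsg.Lie Cfsg.Lie.ChevalleyDatum

universe u

variable {K : Type u} [Field K] [Finite K]

/-- `fin_main` from the statements of `uk_main` and `bk_main` (everything else is on main). -/
theorem fin_of_uk (p : ℕ) [Fact p.Prime] [CharP K p] (D : ChevalleyDatum)
    (hD : D ∈ [chevG2, chevB2, chevD4, chevF4, chevE6, chevE7, chevE8])
    (huk : p = 2 → ∀ (a : ℕ), 1 ≤ a → ∀ (H : Subgroup (GL D.Idx K)), H ≤ D.group K →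
      Lq D K (2 ^ a) ≤ H → RootRat D (2 ^ a) H →
      ∀ g ∈ H, g ∈ D.posUnipotent K → RatM D (2 ^ a) ((g : GL D.Idx K) : Matrix D.Idx D.Idx K))
    (hbk : p = 2 → ∀ (a : ℕ), 1 ≤ a → ∀ (H : Subgroup (GL D.Idx K)), H ≤ D.group K →
      Lq D K (2 ^ a) ≤ H → RootRat D (2 ^ a) H →
      ∀ g ∈ H, g ∈ D.borelSubgroup K → RatM D (2 ^ a) ((g : GL D.Idx K) : Matrix D.Idx D.Idx K))
    (a : ℕ) (ha : 1 ≤ a)
    (H : Subgroup (GL D.Idx K)) (hH : H ≤ D.group K) (hL : Lq D K (p ^ a) ≤ H) :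
    ∃ r : ℕ, 1 ≤ r ∧ Lq D K ((p ^ a) ^ r) ≤ H ∧
      ∀ h ∈ H, RatM D ((p ^ a) ^ r) ((h : GL D.Idx K) : Matrix D.Idx D.Idx K) := by
  refine fin_core p D hD ?_ ?_ ?_ ?_ ?_ a ha H hH hL
  · intro hp a ha H hH hL hR
    exact pair_main p hp D hD a ha H hH hL hR
  · intro hp a ha h hh hs
    exact span_main p hp D hD a ha h hh hs
  · intro hp
    subst hp
    intro a ha H hH hL hR J hJ
    exact Cfsg.Agent.Lib.helper8.PAR.par_main_core D hD a H hH hL
      (huk rfl a ha H hH hL hR) (hbk rfl a ha H hH hL hR) J hJ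
  · intro hp
    subst hp
    intro a ha H hH hL hN
    exact se_main D hD a ha H hH hL hN
  · intro a ha H hH hL
    exact fld_main p D hD a ha H hH hL

end Cfsg.Agent.Lib.Helper10.BGL
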