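import Mathlib
import Cfsg.Agent.Lib.Helper10.BGL.Bridge
import Cfsg.Agent.Lib.helper8.ChevUp
import Cfsg.Agent.Lib.helper8.ChevCommAll
import Cfsg.Prelude.Def_ChevF4

/-!
# Project BGL — sub-block UKZ (bad cases `(B₂, 2)`, `(F₄, 2)` of block UK): definitions

In characteristic `2` the centre of `U(K)` is `X_{ρ_s} X_ρ` for `B₂` and `F₄` (`ρ_s` the highest
short root).  Both roots lie in the `B₂`-subsystem `{±a, ±b, ±(a+b), ±(2a+b)}` with
`a = ρ - ρ_s` (short), `b = 2ρ_s - ρ` (long), `a + b = ρ_s`, `2a + b = ρ`.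

* `ukzA D`, `ukzB D`, `ukzC D` (`= ρ_s`), `ukzE D` (`= ρ`), `ukzA' D` (`= -a`), `ukzB' D` (`= -b`):
  the indices (`B₂`: `5 4 6 7 2 3`; `F₄`: `29 41 44 47 18 6`).
* `ukz_comm`: the commutator formula `H8CommP` in terms of the units `h8xU`, `h8wordU`.
* `UkzRel D hB` : the relations between the six root groups in characteristic `2`.
-/

set_option autoImplicit false

namespace Cfsg.Agent.Lib.Helper10.BGL

open Cfsg.Lie Cfsg.Lie.ChevalleyDatum Cfsg.Agent.Lib.helper8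

universe u

variable {K : Type u} [Field K]

/-- the short root `a = ρ - ρ_s` -/
def ukzA (D : ChevalleyDatum) : ℕ := if D.nroots = 8 then 5 else 29
/-- the long root `b = 2ρ_s - ρ` -/
def ukzB (D : ChevalleyDatum) : ℕ := if D.nroots = 8 then 4 else 41
/-- the highest short root `ρ_s = a + b` -/
def ukzC (D : ChevalleyDatum) : ℕ := if D.nroots = 8 then 6 else 44
/-- the highest root `ρ = 2a + b` -/
def ukzE (D : ChevalleyDatum) : ℕ := D.nroots - 1
/-- the root `-a` -/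
def ukzA' (D : ChevalleyDatum) : ℕ := if D.nroots = 8 then 2 else 18
/-- the root `-b` -/
def ukzB' (D : ChevalleyDatum) : ℕ := if D.nroots = 8 then 3 else 6

/-- the commutator formula in terms of units -/
theorem ukz_comm (D : ChevalleyDatum) (hB : H8Base.{u} D) (hC : H8CommAll.{u} D) (r s : ℕ)
    (hr : r < D.nroots) (hs : s < D.nroots) (hsr : s ≠ r) (hsn : s ≠ D.negIdx.getD r 0)
    (t v : K) :
    h8xU D hB s v * h8xU D hB r t =
      h8xU D hB r t * h8xU D hB s v * h8wordU D hB (D.commWord K r s t v) := by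
  apply Units.ext
  rw [Units.val_mul, Units.val_mul, Units.val_mul, h8xU_val, h8xU_val, h8wordU_val]
  exact hC.all r hr s hs hsr hsn K t v

/-- The relations between the root groups of the `B₂`-subsystem `{±a, ±b, ±(a+b), ±(2a+b)}` in
characteristic `2`: with `A = x_a`, `B = x_b`, `C = x_{a+b}`, `E = x_{2a+b}`, `A' = x_{-a}`,
`B' = x_{-b}`: `C`, `E` commute with `A`, `B`, `C`, `E`;
`B(v) A(t) = A(t) B(v) C(t v) E(t² v)`;
`B'(v) C(t) = C(t) B'(v) A(t v) E(t² v)`, `B'` commutes with `E`;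
`A'(v) E(t) = E(t) A'(v) C(t v) B(t v²)`, `A'` commutes with `C`. -/
structure UkzRel (D : ChevalleyDatum) (hB : H8Base.{u} D) (K : Type u) [Field K] : Prop where
  cA : ∀ t v : K, Commute (h8xU D hB (ukzC D) t) (h8xU D hB (ukzA D) v)
  cB : ∀ t v : K, Commute (h8xU D hB (ukzC D) t) (h8xU D hB (ukzB D) v)
  cE : ∀ t v : K, Commute (h8xU D hB (ukzC D) t) (h8xU D hB (ukzE D) v)
  eA : ∀ t v : K, Commute (h8xU D hB (ukzE D) t) (h8xU D hB (ukzA D) v)
  eB : ∀ t v : K, Commute (h8xU D hB (ukzE D) t) (h8xU D hB (ukzB D) v)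
  eB' : ∀ t v : K, Commute (h8xU D hB (ukzE D) t) (h8xU D hB (ukzB' D) v)
  cA' : ∀ t v : K, Commute (h8xU D hB (ukzC D) t) (h8xU D hB (ukzA' D) v)
  ba : ∀ t v : K, h8xU D hB (ukzB D) v * h8xU D hB (ukzA D) t =
    h8xU D hB (ukzA D) t * h8xU D hB (ukzB D) v *
      (h8xU D hB (ukzC D) (t * v) * h8xU D hB (ukzE D) (t ^ 2 * v))
  b'c : ∀ t v : K, h8xU D hB (ukzB' D) v * h8xU D hB (ukzC D) t =
    h8xU D hB (ukzC D) t * h8xU D hB (ukzB' D) v *
      (h8xU D hB (ukzA D) (t * v) * h8xU D hB (ukzE D) (t ^ 2 * v))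
  a'e : ∀ t v : K, h8xU D hB (ukzA' D) v * h8xU D hB (ukzE D) t =
    h8xU D hB (ukzE D) t * h8xU D hB (ukzA' D) v *
      (h8xU D hB (ukzC D) (t * v) * h8xU D hB (ukzB D) (t * v ^ 2))

/-- the six indices are roots -/
def UkzIdx (D : ChevalleyDatum) : Prop :=
  ukzA D < D.nroots ∧ ukzB D < D.nroots ∧ ukzC D < D.nroots ∧ ukzE D < D.nroots ∧
    ukzA' D < D.nroots ∧ ukzB' D < D.nroots

/-- `y(t) = x_{ρ_s}(t) x_ρ(t²)` -/
def ukzY (D : ChevalleyDatum) (hB : H8Base.{u} D) (t : K) : GL D.Idx K :=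
  h8xU D hB (ukzC D) t * h8xU D hB (ukzE D) (t ^ 2)

/-- root elements with rational parameter lie in `H` -/
theorem ukz_mem (D : ChevalleyDatum) (hB : H8Base.{u} D) (q : ℕ) (H : Subgroup (GL D.Idx K))
    (hL : Lq D K q ≤ H) (s : ℕ) (t : K) (ht : t ^ q = t) : h8xU D hB s t ∈ H :=
  hL (x_mem_Lq D q s t ht _ (h8xU_val D hB s t))

/-- `RootRat` in terms of units -/
theorem ukz_rat (D : ChevalleyDatum) (hB : H8Base.{u} D) (q : ℕ) (H : Subgroup (GL D.Idx K))
    (hR : RootRat D q H) (s : ℕ) (hs : s < D.nroots) (t : K) (h : h8xU D hB s t ∈ H) :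
    t ^ q = t :=
  hR s hs t _ (h8xU_val D hB s t) h

end Cfsg.Agent.Lib.Helper10.BGL
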