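import Mathlib
import Cfsg.Agent.Lib.Helper10.BGL.UkzDefs
import Cfsg.Agent.Lib.helper8.ChevBaseAll

/-!
# Project BGL — sub-block UKZ, rows UKZ2 / UKZ3: the relations `UkzRel` for `B₂` and `F₄`

Table evaluation of `commTerms` (`decide +kernel`) + the commutator formula `ukz_comm`.
-/

set_option autoImplicit false

namespace Cfsg.Agent.Lib.Helper10.BGL

open Cfsg.Lie Cfsg.Lie.ChevalleyDatum Cfsg.Agent.Lib.helper8

universe u

variable {K : Type u} [Field K]

/-- commuting from the commutator formula when the word is trivial -/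
theorem ukz_commute (D : ChevalleyDatum) (hB : H8Base.{u} D) (hC : H8CommAll.{u} D) (r s : ℕ)
    (hr : r < D.nroots) (hs : s < D.nroots) (hsr : s ≠ r) (hsn : s ≠ D.negIdx.getD r 0)
    (t v : K) (hw : h8wordU D hB (D.commWord K r s t v) = 1) :
    Commute (h8xU D hB r t) (h8xU D hB s v) := by
  have h := ukz_comm D hB hC r s hr hs hsr hsn t v
  rw [hw, mul_one] at h
  exact h.symm

theorem ukz_tab_B2 :
    chevB2.commTerms 5 4 = [(6, -1, 1, 1), (7, -1, 2, 1)] ∧
    chevB2.commTerms 6 3 = [(5, -1, 1, 1), (7, 1, 2, 1)] ∧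
    chevB2.commTerms 7 2 = [(6, -1, 1, 1), (4, -1, 1, 2)] ∧
    chevB2.commTerms 6 5 = [(7, -2, 1, 1)] ∧ chevB2.commTerms 6 4 = [] ∧
    chevB2.commTerms 6 7 = [] ∧ chevB2.commTerms 7 5 = [] ∧ chevB2.commTerms 7 4 = [] ∧
    chevB2.commTerms 7 3 = [] ∧ chevB2.commTerms 6 2 = [(4, 2, 1, 1)] := by
  decide +kernel

/-- UKZ row: the relations of the `B₂`-subsystem through `ρ`, `ρ_s` in characteristic `2`. -/
theorem ukz_rel_B2 [CharP K 2] (hB : H8Base.{u} chevB2) : UkzRel chevB2 hB K := by
  have hC := h8commAll.{u} chevB2 (by simp)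
  obtain ⟨hab, hcb', hea', hca, hcb, hce, hea, heb, heb', hca'⟩ := ukz_tab_B2
  have h2 : (2 : K) = 0 := CharTwo.two_eq_zero
  have hn : ∀ x : K, -x = x := fun x => CharTwo.neg_eq x
  have hz : ∀ r, h8xU chevB2 hB r (0 : K) = 1 := fun r => h8xU_zero chevB2 hB r
  refine ⟨?_, ?_, ?_, ?_, ?_, ?_, ?_, ?_, ?_, ?_⟩
  · intro t v
    refine ukz_commute chevB2 hB hC 6 5 (by decide) (by decide) (by decide) (by decide) t v ?_
    unfold ChevalleyDatum.commWord
    rw [hca]
    simp [h8wordU, h2, hz]
  · intro t v
    refine ukz_commute chevB2 hB hC 6 4 (by decide) (by decide) (by decide) (by decide) t v ?_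
    unfold ChevalleyDatum.commWord
    rw [hcb]
    simp [h8wordU]
  · intro t v
    refine ukz_commute chevB2 hB hC 6 7 (by decide) (by decide) (by decide) (by decide) t v ?_
    unfold ChevalleyDatum.commWord
    rw [hce]
    simp [h8wordU]
  · intro t v
    refine ukz_commute chevB2 hB hC 7 5 (by decide) (by decide) (by decide) (by decide) t v ?_
    unfold ChevalleyDatum.commWord
    rw [hea]
    simp [h8wordU]
  · intro t v
    refine ukz_commute chevB2 hB hC 7 4 (by decide) (by decide) (by decide) (by decide) t v ?_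
    unfold ChevalleyDatum.commWord
    rw [heb]
    simp [h8wordU]
  · intro t v
    refine ukz_commute chevB2 hB hC 7 3 (by decide) (by decide) (by decide) (by decide) t v ?_
    unfold ChevalleyDatum.commWord
    rw [heb']
    simp [h8wordU]
  · intro t v
    refine ukz_commute chevB2 hB hC 6 2 (by decide) (by decide) (by decide) (by decide) t v ?_
    unfold ChevalleyDatum.commWord
    rw [hca']
    simp [h8wordU, h2, hz]
  · intro t v
    have h := ukz_comm chevB2 hB hC 5 4 (by decide) (by decide) (by decide) (by decide) t v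
    unfold ChevalleyDatum.commWord at h
    rw [hab] at h
    simp only [h8wordU, List.map_cons, List.map_nil, List.prod_cons, List.prod_nil, mul_one] at h
    show h8xU chevB2 hB 4 v * h8xU chevB2 hB 5 t = h8xU chevB2 hB 5 t * h8xU chevB2 hB 4 v *
      (h8xU chevB2 hB 6 (t * v) * h8xU chevB2 hB 7 (t ^ 2 * v))
    rw [h]
    congr 3
    · push_cast
      simp only [hn]
      ring
    · push_cast
      simp only [hn]
      ring
  · intro t v
    have h := ukz_comm chevB2 hB hC 6 3 (by decide) (by decide) (by decide) (by decide) t v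
    unfold ChevalleyDatum.commWord at h
    rw [hcb'] at h
    simp only [h8wordU, List.map_cons, List.map_nil, List.prod_cons, List.prod_nil, mul_one] at h
    show h8xU chevB2 hB 3 v * h8xU chevB2 hB 6 t = h8xU chevB2 hB 6 t * h8xU chevB2 hB 3 v *
      (h8xU chevB2 hB 5 (t * v) * h8xU chevB2 hB 7 (t ^ 2 * v))
    rw [h]
    congr 3
    · push_cast
      simp only [hn]
      ring
    · push_cast
      simp only [hn]
      ring
  · intro t v
    have h := ukz_comm chevB2 hB hC 7 2 (by decide) (by decide) (by decide) (by decide) t v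
    unfold ChevalleyDatum.commWord at h
    rw [hea'] at h
    simp only [h8wordU, List.map_cons, List.map_nil, List.prod_cons, List.prod_nil, mul_one] at h
    show h8xU chevB2 hB 2 v * h8xU chevB2 hB 7 t = h8xU chevB2 hB 7 t * h8xU chevB2 hB 2 v *
      (h8xU chevB2 hB 6 (t * v) * h8xU chevB2 hB 4 (t * v ^ 2))
    rw [h]
    congr 3
    · push_cast
      simp only [hn]
      ring
    · push_cast
      simp only [hn]
      ring

theorem ukz_tab_F4 :
    chevF4.commTerms 29 41 = [(44, 1, 1, 1), (47, 1, 2, 1)] ∧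
    chevF4.commTerms 44 6 = [(29, 1, 1, 1), (47, -1, 2, 1)] ∧
    chevF4.commTerms 47 18 = [(44, -1, 1, 1), (41, 1, 1, 2)] ∧
    chevF4.commTerms 44 29 = [(47, -2, 1, 1)] ∧ chevF4.commTerms 44 41 = [] ∧
    chevF4.commTerms 44 47 = [] ∧ chevF4.commTerms 47 29 = [] ∧ chevF4.commTerms 47 41 = [] ∧
    chevF4.commTerms 47 6 = [] ∧ chevF4.commTerms 44 18 = [(41, -2, 1, 1)] := by
  decide +kernel

/-- UKZ row: the relations of the `B₂`-subsystem through `ρ`, `ρ_s` in characteristic `2`. -/
theorem ukz_rel_F4 [CharP K 2] (hB : H8Base.{u} chevF4) : UkzRel chevF4 hB K := by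
  have hC := h8commAll.{u} chevF4 (by simp)
  obtain ⟨hab, hcb', hea', hca, hcb, hce, hea, heb, heb', hca'⟩ := ukz_tab_F4
  have h2 : (2 : K) = 0 := CharTwo.two_eq_zero
  have hn : ∀ x : K, -x = x := fun x => CharTwo.neg_eq x
  have hz : ∀ r, h8xU chevF4 hB r (0 : K) = 1 := fun r => h8xU_zero chevF4 hB r
  refine ⟨?_, ?_, ?_, ?_, ?_, ?_, ?_, ?_, ?_, ?_⟩
  · intro t v
    refine ukz_commute chevF4 hB hC 44 29 (by decide) (by decide) (by decide) (by decide) t v ?_
    unfold ChevalleyDatum.commWord
    rw [hca]
    simp [h8wordU, h2, hz]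
  · intro t v
    refine ukz_commute chevF4 hB hC 44 41 (by decide) (by decide) (by decide) (by decide) t v ?_
    unfold ChevalleyDatum.commWord
    rw [hcb]
    simp [h8wordU]
  · intro t v
    refine ukz_commute chevF4 hB hC 44 47 (by decide) (by decide) (by decide) (by decide) t v ?_
    unfold ChevalleyDatum.commWord
    rw [hce]
    simp [h8wordU]
  · intro t v
    refine ukz_commute chevF4 hB hC 47 29 (by decide) (by decide) (by decide) (by decide) t v ?_
    unfold ChevalleyDatum.commWord
    rw [hea]
    simp [h8wordU]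
  · intro t v
    refine ukz_commute chevF4 hB hC 47 41 (by decide) (by decide) (by decide) (by decide) t v ?_
    unfold ChevalleyDatum.commWord
    rw [heb]
    simp [h8wordU]
  · intro t v
    refine ukz_commute chevF4 hB hC 47 6 (by decide) (by decide) (by decide) (by decide) t v ?_
    unfold ChevalleyDatum.commWord
    rw [heb']
    simp [h8wordU]
  · intro t v
    refine ukz_commute chevF4 hB hC 44 18 (by decide) (by decide) (by decide) (by decide) t v ?_
    unfold ChevalleyDatum.commWord
    rw [hca']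
    simp [h8wordU, h2, hz]
  · intro t v
    have h := ukz_comm chevF4 hB hC 29 41 (by decide) (by decide) (by decide) (by decide) t v
    unfold ChevalleyDatum.commWord at h
    rw [hab] at h
    simp only [h8wordU, List.map_cons, List.map_nil, List.prod_cons, List.prod_nil, mul_one] at h
    show h8xU chevF4 hB 41 v * h8xU chevF4 hB 29 t = h8xU chevF4 hB 29 t * h8xU chevF4 hB 41 v *
      (h8xU chevF4 hB 44 (t * v) * h8xU chevF4 hB 47 (t ^ 2 * v))
    rw [h]
    congr 3
    · push_cast
      simp only [hn]
      ring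
    · push_cast
      simp only [hn]
      ring
  · intro t v
    have h := ukz_comm chevF4 hB hC 44 6 (by decide) (by decide) (by decide) (by decide) t v
    unfold ChevalleyDatum.commWord at h
    rw [hcb'] at h
    simp only [h8wordU, List.map_cons, List.map_nil, List.prod_cons, List.prod_nil, mul_one] at h
    show h8xU chevF4 hB 6 v * h8xU chevF4 hB 44 t = h8xU chevF4 hB 44 t * h8xU chevF4 hB 6 v *
      (h8xU chevF4 hB 29 (t * v) * h8xU chevF4 hB 47 (t ^ 2 * v))
    rw [h]
    congr 3
    · push_cast
      simp only [hn]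
      ring
    · push_cast
      simp only [hn]
      ring
  · intro t v
    have h := ukz_comm chevF4 hB hC 47 18 (by decide) (by decide) (by decide) (by decide) t v
    unfold ChevalleyDatum.commWord at h
    rw [hea'] at h
    simp only [h8wordU, List.map_cons, List.map_nil, List.prod_cons, List.prod_nil, mul_one] at h
    show h8xU chevF4 hB 18 v * h8xU chevF4 hB 47 t = h8xU chevF4 hB 47 t * h8xU chevF4 hB 18 v *
      (h8xU chevF4 hB 44 (t * v) * h8xU chevF4 hB 41 (t * v ^ 2))
    rw [h]
    congr 3
    · push_cast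
      simp only [hn]
      ring
    · push_cast
      simp only [hn]
      ring

end Cfsg.Agent.Lib.Helper10.BGL
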