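import Mathlib
import Cfsg.Agent.Lib.Helper18.BGLUKZ3
import Cfsg.Agent.Lib.Helper25.BGLUKZ6
import Cfsg.Agent.Lib.Helper25.BGLUKZ5core

/-!
# Project BGL — sub-block UKZ: assemblies UKZ4 `ukz_split`, UKZ7 `ukz_top_B`

(verbatim vs `SkelUKZ.lean.txt`; on helper18's UKZ0–UKZ3, helper25's UKZ6 and UKZ5 core)
-/

set_option autoImplicit false

namespace Cfsg.Agent.Lib.Helper10.BGL

open Cfsg.Lie Cfsg.Lie.ChevalleyDatum Cfsg.Agent.Lib.helper8

universe u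

variable {K : Type u} [Field K] [Finite K]

theorem ukz_idx_B2 : UkzIdx chevB2 := by unfold UkzIdx; decide

theorem ukz_idx_F4 : UkzIdx chevF4 := by unfold UkzIdx; decide

omit [Finite K] in
/-- `k` is closed under addition (`q = 2^a`, characteristic 2) -/
theorem ukz_rt_add [CharP K 2] (a : ℕ) (x y : K) (hx : Rt (2 ^ a) x) (hy : Rt (2 ^ a) y) :
    Rt (2 ^ a) (x + y) := by
  unfold Rt at *
  rw [add_pow_char_pow, hx, hy]

omit [Finite K] in
theorem ukz_rt_mul (q : ℕ) (x y : K) (hx : Rt q x) (hy : Rt q y) : Rt q (x * y) := by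
  unfold Rt at *
  rw [mul_pow, hx, hy]

/-- UKZ4 [S]  (helper10)  C1 for the centre of `U(K)` in the bad cases. -/
theorem ukz_split [CharP K 2] (D : ChevalleyDatum) (hD : D ∈ [chevB2, chevF4])
    (hB : H8Base.{u} D) (a : ℕ) (H : Subgroup (GL D.Idx K)) (hL : Lq D K (2 ^ a) ≤ H)
    (hR : RootRat D (2 ^ a) H) (t1 t2 : K)
    (hz : h8xU D hB (ukzC D) t1 * h8xU D hB (ukzE D) t2 ∈ H) :
    Rt (2 ^ a) t1 ∧ Rt (2 ^ a) t2 := by
  have hrel : UkzRel D hB K ∧ UkzIdx D := by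
    simp only [List.mem_cons, List.not_mem_nil, or_false] at hD
    rcases hD with rfl | rfl
    · exact ⟨ukz_rel_B2 hB, ukz_idx_B2⟩
    · exact ⟨ukz_rel_F4 hB, ukz_idx_F4⟩
  obtain ⟨hy, h2⟩ := ukz_step D hB hrel.1 hrel.2 (2 ^ a) H hL hR t1 t2 hz
  have h1 := ukz_T D hB hrel.1 hrel.2 a H hL hR t1 hy
  refine ⟨h1, ?_⟩
  have h3 : Rt (2 ^ a) (t1 ^ 2) := by
    rw [pow_two]
    exact ukz_rt_mul _ _ _ h1 h1
  have h4 := ukz_rt_add a _ _ h2 h3
  have e : t2 + t1 ^ 2 + t1 ^ 2 = t2 := by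
    rw [add_assoc, CharTwo.add_self_eq_zero, add_zero]
  rwa [e] at h4

/-- UKZ7 [S]  (helper10)  C2 ending for `x_ρ(t) h`, all seven data (`B₂`: UKZ5 with `t1 = 0`). -/
theorem ukz_top_B [CharP K 2] (D : ChevalleyDatum)
    (hD : D ∈ [chevG2, chevB2, chevD4, chevF4, chevE6, chevE7, chevE8])
    (hB : H8Base.{u} D) (a : ℕ) (H : Subgroup (GL D.Idx K)) (hL : Lq D K (2 ^ a) ≤ H)
    (hR : RootRat D (2 ^ a) H) (h : GL D.Idx K) (hh : h ∈ D.diagonalSubgroup K)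
    (hrat : RatM D (2 ^ a) (h : Matrix D.Idx D.Idx K)) (t : K)
    (hz : h8xU D hB (D.nroots - 1) t * h ∈ H) : Rt (2 ^ a) t := by
  have : Fact (Nat.Prime 2) := ⟨Nat.prime_two⟩
  by_cases h2 : D = chevB2
  · subst h2
    have hD' : chevB2 ∈ [chevB2, chevF4] := by simp
    have hz' : h8xU chevB2 hB (ukzC chevB2) (0 : K) * h8xU chevB2 hB (ukzE chevB2) t * h ∈ H := by
      rw [h8xU_zero, one_mul]
      exact hz
    exact (bglukz5_core chevB2 hD' hB a H hL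
      (fun t1 t2 hz'' => ukz_split chevB2 hD' hB a H hL hR t1 t2 hz'') h hh hrat 0 t hz').2
  · have hD' : D ∈ [chevG2, chevD4, chevF4, chevE6, chevE7, chevE8] := by
      simp only [List.mem_cons, List.not_mem_nil, or_false] at hD ⊢
      tauto
    exact ukz_top_gen 2 D hD' hB a H hL hR h hh hrat t hz

end Cfsg.Agent.Lib.Helper10.BGL
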