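import Mathlib
import Cfsg.Agent.Lib.Helper10.BGL.FinUk
import Cfsg.Agent.Lib.helper14.BGLUKFIN

/-!
# Project BGL — TOP: `fin_main` (verbatim vs `Skel0.lean.txt`)

`fin_of_uk` fed with helper14's `uk_main`, `bk_main`.
-/

set_option autoImplicit false

namespace Cfsg.Agent.Lib.Helper10.BGL

open Cfsg.Lie Cfsg.Lie.ChevalleyDatum

universe u

variable {K : Type u} [Field K] [Finite K]

/-- TOP: FIN = FLD + CORE. -/
theorem fin_main (p : ℕ) [Fact p.Prime] [CharP K p] (D : ChevalleyDatum)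
    (hD : D ∈ [chevG2, chevB2, chevD4, chevF4, chevE6, chevE7, chevE8]) (a : ℕ) (ha : 1 ≤ a)
    (H : Subgroup (GL D.Idx K)) (hH : H ≤ D.group K) (hL : Lq D K (p ^ a) ≤ H) :
    ∃ r : ℕ, 1 ≤ r ∧ Lq D K ((p ^ a) ^ r) ≤ H ∧
      ∀ h ∈ H, RatM D ((p ^ a) ^ r) ((h : GL D.Idx K) : Matrix D.Idx D.Idx K) := by
  refine fin_of_uk p D hD ?_ ?_ a ha H hH hL
  · intro hp
    subst hp
    intro a ha H hH hL hR
    exact uk_main D hD a ha H hH hL hR
  · intro hp
    subst hp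
    intro a ha H hH hL hR
    exact bk_main D hD a ha H hH hL hR

end Cfsg.Agent.Lib.Helper10.BGL
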