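import Mathlib
import Cfsg.Agent.Lib.Helper10.BGL.AlgDefs
import Cfsg.Agent.Lib.helper8.ChevPerf

/-!
# Project BGL — S2189 from FIN, ALG and PEL (block ALG, rows AL10 / AL11)

`s2189_core`: the conclusion of S2189 from the statements of `fin_main` (`hfin`), of `alg_main`
(the exponent `N`) and of `alg_pel` (`hpel`).
-/

set_option autoImplicit false

namespace Cfsg.Agent.Lib.Helper10.BGL

open Cfsg.Lie Cfsg.Lie.ChevalleyDatum Cfsg.Agent.Lib.helper8 Cfsg.Agent.Lib.helper7.Sf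

universe u

section

variable {k : Type u} [Field k] [IsAlgClosed k] (p : ℕ) [Fact p.Prime] [CharP k p]

/-- the `p ^ n`-Frobenius automorphism of the algebraically closed field `k` -/
noncomputable def sigC (n : ℕ) : k ≃+* k :=
  have : ExpChar k p := ExpChar.prime (Fact.out : p.Prime)
  iterateFrobeniusEquiv k p n

theorem sigC_apply (n : ℕ) (x : k) : sigC (k := k) p n x = x ^ p ^ n := rfl

theorem sigC_coe_apply (n : ℕ) (x : k) :
    ((sigC (k := k) p n : k ≃+* k) : k →+* k) x = x ^ p ^ n := rfl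

theorem Lq_eq_fixL_C (D : ChevalleyDatum) (n : ℕ) :
    Lq D k (p ^ n) = fixL D (sigC (k := k) p n) := rfl

theorem ratM_iff_C (D : ChevalleyDatum) (n : ℕ) (g : GL D.Idx k) :
    RatM D (p ^ n) (g : Matrix D.Idx D.Idx k) ↔
      h8Psi D ((sigC (k := k) p n : k ≃+* k) : k →+* k) g = g := by
  constructor
  · intro h
    apply Units.ext
    rw [h8Psi_val]
    ext i j
    rw [Matrix.map_apply]
    exact h i j
  · intro h i j
    have h1 := congrArg (fun x : GL D.Idx k => (x : Matrix D.Idx D.Idx k) i j) h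
    simp only [h8Psi_val, Matrix.map_apply] at h1
    exact h1

/-- elements of `fixL D σ` are `σ`-fixed -/
theorem fixL_fixed {F : Type u} [Field F] (D : ChevalleyDatum) (σ : F ≃+* F) :
    ∀ g ∈ fixL D σ, h8Psi D (σ : F →+* F) g = g := by
  intro g hg
  have : fixL D σ ≤ (h8Psi D (σ : F →+* F)).eqLocus (MonoidHom.id _) := by
    unfold fixL
    rw [Subgroup.closure_le]
    rintro x ⟨s, t, ht, hx⟩
    show h8Psi D (σ : F →+* F) x = x
    apply Units.ext
    rw [h8Psi_val, hx, h8x_map]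
    congr 1
  exact this hg

theorem fixL_le_group {F : Type u} [Field F] (D : ChevalleyDatum) (σ : F ≃+* F) :
    fixL D σ ≤ D.group F := by
  unfold fixL
  rw [Subgroup.closure_le]
  rintro g ⟨s, t, -, hg⟩
  by_cases hs : s < D.nroots
  · unfold ChevalleyDatum.group
    apply Subgroup.subset_closure
    refine ⟨⟨s, hs⟩, t, ?_⟩
    rw [hg]
    unfold ChevalleyDatum.x
    rw [dif_pos hs]
  · have : g = 1 := by
      apply Units.ext
      rw [hg]
      unfold ChevalleyDatum.x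
      rw [dif_neg hs]
      rfl
    rw [this]
    exact Subgroup.one_mem _

/-- the `τ`-fixed elements of `G` are exactly the elements of `G` normalising `fixL D τ` -/
theorem fixed_iff_norm {F : Type u} [Field F] (D : ChevalleyDatum)
    (hD : D ∈ [chevG2, chevB2, chevD4, chevF4, chevE6, chevE7, chevE8]) (σ : F ≃+* F)
    (g : GL D.Idx F) (hg : g ∈ D.group F) :
    g ∈ Subgroup.normalizer ((fixL D σ : Subgroup (GL D.Idx F)) : Set (GL D.Idx F)) ↔
      h8Psi D (σ : F →+* F) g = g :=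
  (subfield_main D hD σ (fixL D σ) (fixL_le_group D σ) le_rfl (fixL_fixed D σ)).2 g hg

/-- `x_s(t) ^ m = x_s(m t)` -/
theorem xU_pow {F : Type u} [Field F] (D : ChevalleyDatum) (hB : H8Base.{u} D) (s : ℕ)
    (hs : s < D.nroots) (t : F) (m : ℕ) : (h8xU D hB s t) ^ m = h8xU D hB s (m * t) := by
  induction m with
  | zero => simp [h8xU_zero]
  | succ m ih =>
    rw [pow_succ, ih, h8xU_add D hB s hs]
    congr 1
    push_cast
    ring

/-- the fixed field of the `p ^ m`-Frobenius is finite -/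
theorem fixF_finite (m : ℕ) (hm : 1 ≤ m) :
    Finite ↥(RingHom.eqLocusField ((sigC (k := k) p m : k ≃+* k) : k →+* k) (RingHom.id k)) := by
  have hp1 : 1 < p ^ m := Nat.one_lt_pow (by omega) (Fact.out : p.Prime).one_lt
  have hpoly : ((Polynomial.X : Polynomial k) ^ (p ^ m) - Polynomial.X) ≠ 0 :=
    FiniteField.X_pow_card_sub_X_ne_zero k hp1
  have hfin := Polynomial.finite_setOfPred_isRoot hpoly
  apply Set.Finite.subset hfin
  intro c hc
  have h1 : c ^ p ^ m = c := hc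
  simp [Polynomial.IsRoot, h1]

/-- AL10: S2189 from the statements of `fin_main`, `alg_main` and `alg_pel`. -/
theorem s2189_core (D : ChevalleyDatum)
    (hD : D ∈ [chevG2, chevB2, chevD4, chevF4, chevE6, chevE7, chevE8]) (a : ℕ) (ha : 1 ≤ a)
    (hfin : ∀ (K : Type u) [Field K] [Finite K] [CharP K p] (H : Subgroup (GL D.Idx K)),
      H ≤ D.group K → Lq D K (p ^ a) ≤ H → ∃ r : ℕ, 1 ≤ r ∧ Lq D K ((p ^ a) ^ r) ≤ H ∧
        ∀ h ∈ H, RatM D ((p ^ a) ^ r) ((h : GL D.Idx K) : Matrix D.Idx D.Idx K))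
    (hpel : ∀ (τ : k ≃+* k) (n : ℕ), 1 ≤ n → (∀ c : k, τ c = c → c ^ (p ^ n) = c) →
      ∀ y : GL D.Idx k, y ∈ D.group k → h8Psi D (τ : k →+* k) y = y → ∀ e : ℕ,
        y ^ (p ^ e) = 1 → y ∈ fixL D τ)
    (M : Subgroup (GL D.Idx k)) (hMG : M ≤ D.group k) (hLM : Lq D k (p ^ a) ≤ M)
    (N : ℕ) (hN : 1 ≤ N)
    (hMN : ∀ g ∈ M, ∀ i j : D.Idx,
      ((g : Matrix D.Idx D.Idx k) i j) ^ (p ^ N) = (g : Matrix D.Idx D.Idx k) i j) :
    ∃ r : ℕ, 1 ≤ r ∧ Lq D k ((p ^ a) ^ r) ≤ M ∧ ∀ g ∈ M, ∀ i j : D.Idx,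
      ((g : Matrix D.Idx D.Idx k) i j) ^ ((p ^ a) ^ r) = (g : Matrix D.Idx D.Idx k) i j := by
  classical
  have hB := h8base_all.{u} D hD
  -- the big Frobenius `σ₂ = p^(a N)`
  set σ₂ : k ≃+* k := sigC (k := k) p (a * N) with hσ₂
  have hσ₂a : ∀ c : k, σ₂ c = c ^ (p ^ a) ^ N := by
    intro c
    rw [hσ₂, sigC_apply, pow_mul]
  have hMσ : ∀ g ∈ M, h8Psi D (σ₂ : k →+* k) g = g := by
    intro g hg
    rw [hσ₂, ← ratM_iff_C]
    intro i j
    exact alg_fix_mul p _ N (hMN g hg i j) a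
  let K₂ : Subfield k := RingHom.eqLocusField (σ₂ : k →+* k) (RingHom.id k)
  have hK₂fin : Finite ↥K₂ := fixF_finite p (a * N) (Nat.mul_pos (by omega) (by omega))
  have hK₂mem : ∀ c : k, c ∈ K₂ ↔ σ₂ c = c := fun c => Iff.rfl
  let ψ : GL D.Idx ↥K₂ →* GL D.Idx k := h8Psi D K₂.subtype
  let H₁ : Subgroup (GL D.Idx ↥K₂) := M.comap ψ ⊓ D.group ↥K₂
  have hψx : ∀ (s : ℕ) (t : ↥K₂), ψ (h8xU D hB s t) = h8xU D hB s (t : k) := by
    intro s t
    exact h8Psi_xU D hB hB K₂.subtype s t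
  -- `Lq D K₂ q ≤ H₁`
  have hLH₁ : Lq D ↥K₂ (p ^ a) ≤ H₁ := by
    refine le_inf ?_ (Lq_le_group D _)
    unfold Lq
    rw [Subgroup.closure_le]
    rintro x ⟨s, t, ht, hx⟩
    show ψ x ∈ M
    have hx' : x = h8xU D hB s t := Units.ext (by rw [hx, h8xU_val])
    rw [hx', hψx]
    apply hLM
    refine x_mem_Lq D _ s (t : k) ?_ _ (h8xU_val D hB s _)
    have := congrArg (fun z : ↥K₂ => (z : k)) ht
    simpa using this
  obtain ⟨r, hr, hLr, hrat⟩ := hfin ↥K₂ H₁ inf_le_right hLH₁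
  -- the normalised exponent
  set r₁ := Nat.gcd r N with hr₁
  have hr₁pos : 1 ≤ r₁ := Nat.gcd_pos_of_pos_left _ (by omega)
  obtain ⟨d₁, hd₁⟩ : r₁ ∣ r := Nat.gcd_dvd_left r N
  obtain ⟨d₂, hd₂⟩ : r₁ ∣ N := Nat.gcd_dvd_right r N
  have hK₂pow : ∀ c : ↥K₂, c ^ (p ^ a) ^ N = c := by
    intro c
    apply Subtype.ext
    have := c.2
    rw [hK₂mem, hσ₂a] at this
    simpa using this
  -- Claim A: elements of `H₁` are rational over `F_{q^r₁}`
  have hA : ∀ h ∈ H₁, ∀ i j, ((h : Matrix D.Idx D.Idx ↥K₂) i j) ^ (p ^ a) ^ r₁ =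
      (h : Matrix D.Idx D.Idx ↥K₂) i j := by
    intro h hh i j
    exact alg_fix_gcd (p ^ a) _ r N (hrat h hh i j) (hK₂pow _)
  -- parameters fixed by the `q^r₁`-power map lie in `K₂` and are fixed by the `q^r`-power map
  have hpar : ∀ t : k, t ^ (p ^ a) ^ r₁ = t → σ₂ t = t ∧ t ^ (p ^ a) ^ r = t := by
    intro t ht
    refine ⟨?_, ?_⟩
    · rw [hσ₂a, hd₂, mul_comm]
      exact alg_fix_mul (p ^ a) t r₁ ht d₂
    · rw [hd₁, mul_comm]
      exact alg_fix_mul (p ^ a) t r₁ ht d₁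
  -- Claim B: `L' ≤ M`
  have hB' : Lq D k ((p ^ a) ^ r₁) ≤ M := by
    unfold Lq
    rw [Subgroup.closure_le]
    rintro x ⟨s, t, ht, hx⟩
    obtain ⟨h1, h2⟩ := hpar t ht
    have hx' : x = h8xU D hB s t := Units.ext (by rw [hx, h8xU_val])
    have hmem : h8xU D hB s (⟨t, h1⟩ : ↥K₂) ∈ H₁ := by
      apply hLr
      refine x_mem_Lq D _ s _ ?_ _ (h8xU_val D hB s _)
      apply Subtype.ext
      simpa using h2
    have := hmem.1
    change ψ _ ∈ M at this
    rw [hψx] at this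
    rw [hx']
    exact this
  -- the small Frobenius `τ = q^r₁`
  set τ : k ≃+* k := sigC (k := k) p (a * r₁) with hτ
  have hτa : ∀ c : k, τ c = c ^ (p ^ a) ^ r₁ := by
    intro c
    rw [hτ, sigC_apply, pow_mul]
  have hLτ : Lq D k ((p ^ a) ^ r₁) = fixL D τ := by
    rw [← pow_mul]
    rfl
  -- `fixL D σ₂ ≤ ψ (G(K₂))`
  have hG₂ : fixL D σ₂ ≤ (D.group ↥K₂).map ψ := by
    unfold fixL
    rw [Subgroup.closure_le]
    rintro x ⟨s, t, ht, hx⟩
    have hx' : x = h8xU D hB s t := Units.ext (by rw [hx, h8xU_val])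
    refine ⟨h8xU D hB s (⟨t, ht⟩ : ↥K₂), h8xU_mem_group D hB s _, ?_⟩
    rw [hx']
    exact hψx s _
  -- Claim D
  have hD' : ∀ g ∈ M, ∀ x ∈ fixL D τ, g * x * g⁻¹ ∈ fixL D τ := by
    intro g hg x hx
    have hle : fixL D τ ≤ (fixL D τ).comap (MulAut.conj g).toMonoidHom := by
      conv_lhs => unfold fixL
      rw [Subgroup.closure_le]
      rintro x ⟨s, t, ht, hx⟩
      show g * x * g⁻¹ ∈ fixL D τ
      have ht' : t ^ (p ^ a) ^ r₁ = t := by rw [← hτa]; exact ht
      obtain ⟨h1, h2⟩ := hpar t ht'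
      have hx' : x = h8xU D hB s t := Units.ext (by rw [hx, h8xU_val])
      have hxL : x ∈ Lq D k ((p ^ a) ^ r₁) := x_mem_Lq D _ s t ht' x hx
      have hxM : x ∈ M := hB' hxL
      have hyM : g * x * g⁻¹ ∈ M := M.mul_mem (M.mul_mem hg hxM) (M.inv_mem hg)
      have hxG₂ : x ∈ fixL D σ₂ := Subgroup.subset_closure ⟨s, t, h1, hx⟩
      have hgn : g ∈ Subgroup.normalizer ((fixL D σ₂ : Subgroup (GL D.Idx k)) : Set (GL D.Idx k)) :=
        (fixed_iff_norm D hD σ₂ g (hMG hg)).2 (hMσ g hg)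
      have hyG₂ : g * x * g⁻¹ ∈ fixL D σ₂ := (Subgroup.mem_normalizer_iff.1 hgn x).1 hxG₂
      obtain ⟨y₂, hy₂G, hy₂⟩ := hG₂ hyG₂
      have hy₂H : y₂ ∈ H₁ := ⟨by show ψ y₂ ∈ M; rw [hy₂]; exact hyM, hy₂G⟩
      -- `τ`-fixed
      have hyτ : h8Psi D (τ : k →+* k) (g * x * g⁻¹) = g * x * g⁻¹ := by
        rw [hτ, ← ratM_iff_C]
        intro i j
        rw [← hy₂]
        have h3 := hA y₂ hy₂H i j
        have h4 := congrArg (fun z : ↥K₂ => (z : k)) h3
        simp only [SubmonoidClass.coe_pow] at h4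
        rw [pow_mul]
        exact h4
      -- a `p`-element
      have hyp : (g * x * g⁻¹) ^ (p ^ 1) = 1 := by
        rw [pow_one, conj_pow]
        have : x ^ p = 1 := by
          rw [hx']
          by_cases hs : s < D.nroots
          · rw [xU_pow D hB s hs, CharP.cast_eq_zero, zero_mul, h8xU_zero]
          · have : h8xU D hB s t = 1 := by
              apply Units.ext
              rw [h8xU_val]
              unfold ChevalleyDatum.x
              rw [dif_neg hs]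
              rfl
            rw [this, one_pow]
        rw [this]
        group
      have hτfix : ∀ c : k, τ c = c → c ^ (p ^ (a * r₁)) = c := by
        intro c hc
        rw [hτ, sigC_apply] at hc
        exact hc
      exact hpel τ (a * r₁) (Nat.mul_pos (by omega) (by omega)) hτfix _
        ((D.group k).mul_mem ((D.group k).mul_mem (hMG hg) (hMG hxM)) ((D.group k).inv_mem (hMG hg)))
        hyτ 1 hyp
    exact hle hx
  refine ⟨r₁, hr₁pos, hB', ?_⟩
  intro g hg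
  -- `g` normalises `fixL D τ`
  have hgn : g ∈ Subgroup.normalizer ((fixL D τ : Subgroup (GL D.Idx k)) : Set (GL D.Idx k)) := by
    rw [Subgroup.mem_normalizer_iff]
    intro x
    constructor
    · exact hD' g hg x
    · intro hx
      have := hD' g⁻¹ (M.inv_mem hg) _ hx
      have e : g⁻¹ * (g * x * g⁻¹) * g⁻¹⁻¹ = x := by group
      rw [e] at this
      exact this
  have hgτ := (fixed_iff_norm D hD τ g (hMG hg)).1 hgn
  rw [hτ, ← ratM_iff_C] at hgτ
  intro i j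
  have := hgτ i j
  rw [pow_mul] at this
  exact this

end

end Cfsg.Agent.Lib.Helper10.BGL
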