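import Mathlib
import Cfsg.Agent.Lib.Helper10.BGL.Bridge
import Cfsg.Agent.Lib.helper14.BGLMne

/-!
# Project BGL — S2190 from the statement of `fin_main` (block TOP, row T1)
-/

set_option autoImplicit false

namespace Cfsg.Agent.Lib.Helper10.BGL

open Cfsg.Lie Cfsg.Lie.ChevalleyDatum Cfsg.Agent.Lib.helper8

universe u

/-- iterating the `q`-power map -/
theorem top_pow_iter {K : Type u} [Field K] (q : ℕ) (c : K) (m n : ℕ) :
    (c ^ q ^ m) ^ q ^ n = c ^ q ^ (m + n) := by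
  rw [← pow_mul, ← pow_add]

theorem top_fix_mul {K : Type u} [Field K] (q : ℕ) (c : K) (m : ℕ) (h : c ^ q ^ m = c) (n : ℕ) :
    c ^ q ^ (n * m) = c := by
  induction n with
  | zero => simp
  | succ n ih =>
    have e : (n + 1) * m = n * m + m := by ring
    rw [e, ← top_pow_iter, ih, h]

/-- the Bezout step: an element fixed by the `q^r`- and `q^r'`-power maps with `r, r'` coprime is
fixed by the `q`-power map -/
theorem top_fix_coprime {K : Type u} [Field K] (q : ℕ) (c : K) (r r' : ℕ) (hr : 1 ≤ r)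
    (hco : Nat.Coprime r r')
    (h1 : c ^ q ^ r = c) (h2 : c ^ q ^ r' = c) : c ^ q = c := by
  -- u * r' ≡ 1 mod r
  obtain ⟨u, hu⟩ : ∃ u : ℕ, u * r' % r = 1 % r := by
    obtain ⟨m, -, hm⟩ := Nat.exists_mul_mod_eq_of_coprime (k := r) (n := r') 1 hco.symm (by omega)
    exact ⟨m, by rw [mul_comm, hm]⟩
  -- u * r' = v * r + 1 or r = 1
  by_cases hr1 : r = 1
  · subst hr1
    simpa using h1
  · have h1r : 1 % r = 1 := Nat.mod_eq_of_lt (by omega)
    rw [h1r] at hu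
    have hdiv := Nat.div_add_mod (u * r') r
    rw [hu] at hdiv
    -- u * r' = r * v + 1
    have e3 := top_fix_mul q c r' h2 u
    rw [← hdiv, add_comm, ← top_pow_iter, pow_one, mul_comm r] at e3
    have e4 : (c ^ q) ^ q ^ (u * r' / r * r) = c ^ q := by
      rw [← pow_mul, mul_comm, pow_mul, top_fix_mul q c r h1]
    rw [e4] at e3
    exact e3

/-- S2190 from the statement `hfin` of `fin_main`. -/
theorem s2190_core {K : Type u} [Field K] [Fintype K] (p : ℕ) [Fact p.Prime] [CharP K p]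
    (D : Cfsg.Lie.ChevalleyDatum)
    (hD : D ∈ [Cfsg.Lie.chevG2, Cfsg.Lie.chevB2, Cfsg.Lie.chevD4, Cfsg.Lie.chevF4,
      Cfsg.Lie.chevE6, Cfsg.Lie.chevE7, Cfsg.Lie.chevE8]) (a r : ℕ) (ha : 1 ≤ a) (hr : r.Prime)
    (hK : Fintype.card K = (p ^ a) ^ r) (M : Subgroup (GL D.Idx K))
    (hM : ∀ g : GL D.Idx K, g ∈ M ↔ g ∈ D.group K ∧ ∀ i j : D.Idx,
      ((g : Matrix D.Idx D.Idx K) i j) ^ (p ^ a) = (g : Matrix D.Idx D.Idx K) i j)
    (hfin : ∀ H : Subgroup (GL D.Idx K), H ≤ D.group K → Lq D K (p ^ a) ≤ H →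
      ∃ r' : ℕ, 1 ≤ r' ∧ Lq D K ((p ^ a) ^ r') ≤ H ∧
        ∀ h ∈ H, RatM D ((p ^ a) ^ r') ((h : GL D.Idx K) : Matrix D.Idx D.Idx K)) :
    M ≠ D.group K ∧
      ∀ H : Subgroup (GL D.Idx K), M ≤ H → H ≤ D.group K → H = M ∨ H = D.group K := by
  refine ⟨Cfsg.Agent.Lib.helper14.BGL.bgl_M_ne p D hD a r ha hr hK M hM, ?_⟩
  intro H hMH hHG
  have hLM : Lq D K (p ^ a) ≤ M := by
    intro g hg
    rw [hM]
    exact ⟨Lq_le_group D _ hg, Lq_rat p D a g hg⟩
  obtain ⟨r', hr', hLr', hrat⟩ := hfin H hHG (hLM.trans hMH)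
  have hcardpow : ∀ c : K, c ^ (p ^ a) ^ r = c := by
    intro c
    rw [← hK]
    exact FiniteField.pow_card c
  by_cases hdvd : r ∣ r'
  · -- every root element lies in H
    right
    apply le_antisymm hHG
    obtain ⟨m, rfl⟩ := hdvd
    refine le_trans ?_ hLr'
    unfold ChevalleyDatum.group
    rw [Subgroup.closure_le]
    rintro g ⟨s, t, hg⟩
    refine x_mem_Lq D _ s.val t ?_ g ?_
    · rw [mul_comm]
      exact top_fix_mul (p ^ a) t r (hcardpow t) m
    · rw [hg]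
      unfold ChevalleyDatum.x
      rw [dif_pos s.2]
  · left
    apply le_antisymm ?_ hMH
    intro h hh
    rw [hM]
    refine ⟨hHG hh, ?_⟩
    intro i j
    have hco : Nat.Coprime r r' := (Nat.Prime.coprime_iff_not_dvd hr).mpr hdvd
    exact top_fix_coprime (p ^ a) _ r r' hr.one_lt.le hco (hcardpow _) (hrat h hh i j)

end Cfsg.Agent.Lib.Helper10.BGL
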